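import Mathlib

/-!
Shared vocabulary for finite groups whose class sizes have at most two prime divisors.
-/

set_option autoImplicit false

namespace H72.TwoPrime

/-- every conjugacy class size has at most two prime divisors -/
def ClassTwo (G : Type*) [Group G] : Prop :=
  ∀ x : G, ((Subgroup.centralizer ({x} : Set G)).index).primeFactors.card ≤ 2

/-- the automiser order of a subgroup -/
noncomputable def autOrder {G : Type*} [Group G] (P : Subgroup G) : ℕ :=
  (Subgroup.centralizer (P : Set G)).relIndex (Subgroup.normalizer (P : Set G))

/-- local structure at an odd prime `r`: `C(R) = R × E` is the centraliser of each element of `R#` -/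
structure OddData (G : Type*) [Group G] (r : ℕ) (R : Sylow r G) (E : Subgroup G) : Prop where
  prime : r.Prime
  ne_two : r ≠ 2
  comm : IsMulCommutative (R : Subgroup G)
  two : IsPGroup 2 E
  cent_eq : (R : Subgroup G) ⊔ E = Subgroup.centralizer ((R : Subgroup G) : Set G)
  cent_elem : ∀ u ∈ (R : Subgroup G), u ≠ 1 →
    Subgroup.centralizer ({u} : Set G) = Subgroup.centralizer ((R : Subgroup G) : Set G)

/-- what the simple case provides -/
structure Nice (T : Type*) [Group T] : Prop where
  order : Nat.card T = 60 ∨ Nat.card T = 504
  syl_comm : ∀ (p : ℕ), p.Prime → ∀ P : Sylow p T, IsMulCommutative (P : Subgroup T)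
  syl_ti : ∀ (p : ℕ), p.Prime → ∀ (P P' : Sylow p T) (x : T), x ≠ 1 → x ∈ (P : Subgroup T) →
    x ∈ (P' : Subgroup T) → P = P'

end H72.TwoPrime
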