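import Cfsg.Agent.H72.TwoPrime.ExcLocal
import Cfsg.Agent.H24.CharBasic
import Cfsg.Agent.H19.PrimeDegrees

/-!
Exceptional characters for an odd Sylow subgroup with automiser of order two, in a simple group
whose order has three prime divisors.
-/

set_option autoImplicit false
set_option linter.unusedSectionVars false
set_option linter.style.haveILetI false

open Cfsg Module
open scoped ComplexConjugate

namespace H72.TwoPrime

universe u

theorem card_eq_mul {G : Type u} [Group G] [Finite G] {r t : ℕ} [Fact r.Prime] [Fact t.Prime]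
    (hr : r ≠ 2) (ht : t ≠ 2) (hrt : r ≠ t) (hπ : (Nat.card G).primeFactors = {2, r, t})
    (Q : Sylow 2 G) (R : Sylow r G) (T : Sylow t G) :
    Nat.card G = Nat.card (Q : Subgroup G) * Nat.card (R : Subgroup G) *
      Nat.card (T : Subgroup G) := by
  haveI : Fact (Nat.Prime 2) := ⟨Nat.prime_two⟩
  rw [Q.card_eq_multiplicity, R.card_eq_multiplicity, T.card_eq_multiplicity]
  conv_lhs => rw [← Nat.prod_factorization_pow_eq_self (Nat.card_pos (α := G)).ne']
  rw [Finsupp.prod, Nat.support_factorization, hπ, Finset.prod_insert (by simp [hr.symm, ht.symm]),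
    Finset.prod_insert (by simp [hrt]), Finset.prod_singleton, mul_assoc]

theorem sum_restrict {A G : Type u} [Group A] [Fintype A] [Group G] [Finite G]
    (χ : IrrCharacter G) (f : A →* G) :
    ∃ n : ℕ, ∑ a : A, (χ : G → ℂ) (f a) = (Nat.card A : ℂ) * n := by
  obtain ⟨n, hn⟩ := H12.IsCharacter.classInner_nat
    (H12.IsCharacter.comp (H12.isCharacter_irr χ) f) (H12.isCharacter_one (G := A))
  refine ⟨n, ?_⟩
  rw [← hn, ← H12.sum_mul_conj_eq_card_mul]
  simp

theorem two_pow_or {f g t : ℕ} (ht : t.Prime) (ht2 : t ≠ 2) (hcons : g = f + 1 ∨ f = g + 1)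
    (hf : 2 ≤ f) (hg : 2 ≤ g) (hfp : ∀ p, p.Prime → p ∣ f → p = 2 ∨ p = t)
    (hgp : ∀ p, p.Prime → p ∣ g → p = 2 ∨ p = t) :
    ∃ x y : ℕ, 0 < x ∧ 0 < y ∧ ((f = 2 ^ x ∧ g = t ^ y) ∨ (f = t ^ y ∧ g = 2 ^ x)) := by
  have key : ∀ a b : ℕ, 2 ≤ a → 2 ≤ b → (a = b + 1 ∨ b = a + 1) → ¬ 2 ∣ b →
      (∀ p, p.Prime → p ∣ a → p = 2 ∨ p = t) → (∀ p, p.Prime → p ∣ b → p = 2 ∨ p = t) →
      ∃ x y : ℕ, 0 < x ∧ 0 < y ∧ a = 2 ^ x ∧ b = t ^ y := by
    intro a b ha hb hab hbodd hap hbp
    have hbt : b = t ^ b.primeFactorsList.length :=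
      Nat.eq_prime_pow_of_unique_prime_dvd (by omega) fun {p} hp hpb =>
        (hbp p hp hpb).resolve_left fun e => hbodd (e ▸ hpb)
    have htb : t ∣ b := by
      obtain ⟨p, hp, hpb⟩ := Nat.exists_prime_and_dvd (show b ≠ 1 by omega)
      rwa [← (hbp p hp hpb).resolve_left fun e => hbodd (e ▸ hpb)]
    have hat : a = 2 ^ a.primeFactorsList.length :=
      Nat.eq_prime_pow_of_unique_prime_dvd (by omega) fun {p} hp hpa =>
        (hap p hp hpa).resolve_right fun e => by
          subst e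
          have h1 : p ∣ 1 := by
            rcases hab with h | h
            · exact (Nat.dvd_add_right htb).1 (h ▸ hpa)
            · exact (Nat.dvd_add_right hpa).1 (h ▸ htb)
          exact hp.one_lt.ne' (Nat.dvd_one.1 h1)
    refine ⟨_, _, ?_, ?_, hat, hbt⟩
    · by_contra h0
      rw [Nat.eq_zero_of_not_pos h0, pow_zero] at hat
      omega
    · by_contra h0
      rw [Nat.eq_zero_of_not_pos h0, pow_zero] at hbt
      omega
  by_cases h2 : 2 ∣ g
  · obtain ⟨x, y, hx, hy, e1, e2⟩ := key g f hg hf (by omega) (by omega) hgp hfp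
    exact ⟨x, y, hx, hy, Or.inr ⟨e2, e1⟩⟩
  · obtain ⟨x, y, hx, hy, e1, e2⟩ := key f g hf hg (by omega) h2 hfp hgp
    exact ⟨x, y, hx, hy, Or.inl ⟨e1, e2⟩⟩

theorem exceptional {G : Type u} [Group G] [Finite G] [IsSimpleGroup G]
    (hna : ¬ IsMulCommutative G) {r t : ℕ} [hrF : Fact r.Prime] [htF : Fact t.Prime] (hrt : r ≠ t)
    (ht2 : t ≠ 2) (hπ : (Nat.card G).primeFactors = {2, r, t}) {R : Sylow r G} {E : Subgroup G}
    (d : OddData G r R E) (he : autOrder (R : Subgroup G) = 2)
    (hR5 : 5 ≤ Nat.card (R : Subgroup G)) (Q : Sylow 2 G) (T : Sylow t G) {z : G}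
    (hz : orderOf z = 2) (hzQ : Subgroup.centralizer ({z} : Set G) = (Q : Subgroup G)) :
    ∃ x y f g : ℕ, 0 < x ∧ 0 < y ∧ ((f = 2 ^ x ∧ g = t ^ y) ∨ (f = t ^ y ∧ g = 2 ^ x)) ∧
      ((g = f + 1 ∧ Nat.card (R : Subgroup G) ∣ f - 1) ∨
        (f = g + 1 ∧ Nat.card (R : Subgroup G) ∣ f + 1)) ∧
      t ^ y ∣ Nat.card (T : Subgroup G) ∧
      (E = ⊥ → Nat.card (Q : Subgroup G) = 2 ^ x ∧ Nat.card (T : Subgroup G) = t ^ y) ∧
      (f < 2 * Nat.card (R : Subgroup G) → E = ⊥) := by
  classical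
  haveI : Fact (Nat.Prime 2) := ⟨Nat.prime_two⟩
  haveI : Fintype G := Fintype.ofFinite G
  haveI : Fintype (R : Subgroup G) := Fintype.ofFinite _
  haveI : Fintype E := Fintype.ofFinite _
  haveI : Fintype (Subgroup.centralizer ((R : Subgroup G) : Set G)) := Fintype.ofFinite _
  have hperf : commutator G = ⊤ := H19.PrimeDeg.commutator_top hna
  haveI : Finite ((R : Subgroup G) →* ℂˣ) :=
    Finite.of_injective _ (H12.linIrr_injective (G := (R : Subgroup G)))
  haveI : Fintype ((R : Subgroup G) →* ℂˣ) := Fintype.ofFinite _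
  set C := Subgroup.centralizer ((R : Subgroup G) : Set G) with hC
  obtain ⟨i, hiN, hic, hinv, hsplit⟩ := d.exists_inverter he
  haveI hRc := d.comm
  have hcomm : ∀ a b : (R : Subgroup G), a * b = b * a := mul_comm'
  set Rn := Nat.card (R : Subgroup G) with hRn
  have hRne : (Rn : ℂ) ≠ 0 := Nat.cast_ne_zero.2 Nat.card_pos.ne'
  obtain ⟨a, ha⟩ := IsPGroup.iff_card.1 R.2
  have hRpow : Rn = r ^ a := ha
  have hRodd : Odd Rn := by
    rw [hRpow]
    exact (d.prime.odd_of_ne_two d.ne_two).pow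
  have hsqrt : ∀ u : (R : Subgroup G), ∃ v : (R : Subgroup G), v * v = u := by
    intro u
    obtain ⟨k, hk⟩ := hRodd
    refine ⟨u ^ (k + 1), ?_⟩
    rw [← pow_add, show k + 1 + (k + 1) = Rn + 1 by omega, pow_succ, hRn, pow_card_eq_one', one_mul]
  have hfne : ∀ f : (R : Subgroup G) →* ℂˣ, f ≠ 1 → f ≠ f⁻¹ := by
    intro f hf e
    refine hf (MonoidHom.ext fun u => ?_)
    obtain ⟨v, rfl⟩ := hsqrt u
    have h1 := congrArg (fun F : (R : Subgroup G) →* ℂˣ => F v) e
    simp only [MonoidHom.inv_apply] at h1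
    rw [map_mul, MonoidHom.one_apply]
    nth_rw 1 [h1]
    exact inv_mul_cancel _
  have hσ1 : (fun y : E => (1 : ℂ)) = fun y : E => (fun _ : E => (1 : ℂ)) (d.sigma hiN y) := rfl
  have hone : classInner (fun _ : E => (1 : ℂ)) (fun _ => 1) = 1 :=
    H12.classInner_irr_self (H12.oneIrr E)
  -- the functions `α f`
  let α : ((R : Subgroup G) →* ℂˣ) → G → ℂ := fun f => indFun C (d.phi f fun _ => 1)
  have hαgen : ∀ f, IsGeneralizedCharacter G (α f) := fun f =>
    H12.IsGeneralizedCharacter.indFun (d.isGeneralized_phi f H12.isCharacter_one)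
  have hαcf : ∀ f, IsClassFunction G (α f) := fun f => H12.indFun_isClassFunction _ _
  choose k hk using fun f χ => ((H12.isGeneralizedCharacter_iff.1 (hαgen f)).2 χ)
  let A : IrrCharacter G → ↥(R : Subgroup G) → ℂ := fun χ u =>
    classInner (fun _ : E => (1 : ℂ)) (fun y : E => (χ : G → ℂ) (u * y))
  have hkA : ∀ f χ, (Rn : ℂ)⁻¹ * ∑ u : (R : Subgroup G), (1 - (f u : ℂ)) * A χ u = (k f χ : ℂ) := by
    intro f χ
    rw [← d.classInner_phi f (fun _ => 1) (χ : G → ℂ), ← H12.classInner_indFun _ _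
      (H12.irr_isClassFunction χ)]
    exact hk f χ
  have hk1 : ∀ χ, k 1 χ = 0 := fun χ => by
    have h := hkA 1 χ
    simp only [MonoidHom.one_apply, Units.val_one, sub_self, zero_mul, Finset.sum_const_zero,
      mul_zero] at h
    exact_mod_cast h.symm
  have hfirst : ∀ f : (R : Subgroup G) →* ℂˣ, f ≠ 1 →
      (Rn : ℂ)⁻¹ * ∑ u : (R : Subgroup G), (1 - (f u : ℂ)) = 1 := by
    intro f hf
    rw [Finset.sum_sub_distrib, sum_hom_eq_zero hf, sub_zero, Finset.sum_const, Finset.card_univ,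
      nsmul_eq_mul, mul_one, ← Nat.card_eq_fintype_card, inv_mul_cancel₀ hRne]
  have hkone : ∀ f, f ≠ 1 → k f (H12.oneIrr G) = 1 := by
    intro f hf
    have h := hkA f (H12.oneIrr G)
    simp only [A, H12.oneIrr_apply, hone, mul_one] at h
    rw [hfirst f hf] at h
    exact_mod_cast h.symm
  have hinner : ∀ f g, f ≠ 1 → g ≠ 1 → ∑ χ, k f χ * k g χ =
      (if f = g then 2 else 1) + (if f = g⁻¹ then 2 else 1) := by
    intro f g hf hg
    have h := H12.classInner_eq_sum_mul (hαcf f) (hαcf g)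
    have h2 := d.classInner_ind hiN hinv hsplit hic f g (fun _ => 1) (fun _ => 1) (fun _ _ => rfl)
    rw [← hσ1, hone, mul_one, mul_one, classInner_one_sub hf hg,
      classInner_one_sub hf (fun h => hg (MonoidHom.ext fun u => inv_eq_one.1 (DFunLike.congr_fun h u)))] at h2
    rw [h2] at h
    simp only [hk, map_intCast] at h
    have h' : ((∑ χ, k f χ * k g χ : ℤ) : ℂ) =
        (((if f = g then 2 else 1) + (if f = g⁻¹ then 2 else 1) : ℤ) : ℂ) := by
      push_cast
      exact h.symm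
    exact_mod_cast h'
  have hαzero : ∀ f (g0 : G), (∀ x : G, ∀ u : (R : Subgroup G), ∀ y : E,
      x⁻¹ * g0 * x = (u : G) * y → u = 1) → α f g0 = 0 := by
    intro f g0 hg0
    show (Nat.card C : ℂ)⁻¹ * ∑ x : G, extendByZero C (d.phi f fun _ => 1) (x⁻¹ * g0 * x) = 0
    rw [Finset.sum_eq_zero, mul_zero]
    intro x _
    by_cases hx : x⁻¹ * g0 * x ∈ C
    · obtain ⟨⟨u, y⟩, huy⟩ := d.equiv.surjective ⟨_, hx⟩
      have hu : u = 1 := hg0 x u y (by rw [← d.equiv_coe (u, y), huy])
      rw [H12.extendByZero_mk C _ hx, ← huy, d.phi_apply, hu]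
      simp
    · exact H12.extendByZero_of_notMem C _ hx
  have hexp : ∀ f (g0 : G), α f g0 = ∑ χ, (k f χ : ℂ) * (χ : G → ℂ) g0 := by
    intro f g0
    rw [H12.classFunction_apply_eq_sum (hαcf f) g0]
    simp only [hk]
  have hat1 : ∀ f, α f 1 = 0 := fun f => hαzero f 1 fun x u y h => by
    rw [mul_one, inv_mul_cancel] at h
    exact Subtype.ext (d.eq_of_mul_eq (one_mem _) u.2 (one_mem _) y.2 (by rw [one_mul, h])).1.symm
  have hz2 : z * z = 1 := by rw [← sq, ← hz, pow_orderOf_eq_one]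
  have hz1 : z ≠ 1 := fun e => by rw [e, orderOf_one] at hz; omega
  have hatz : ∀ f, α f z = 0 := fun f => hαzero f z fun x u y h => by
    have h2 : ((u : G) * y) * ((u : G) * y) = 1 := by
      rw [← h, show x⁻¹ * z * x * (x⁻¹ * z * x) = x⁻¹ * (z * z) * x by group, hz2]
      group
    have h3 : ((u : G) * u) * ((y : G) * y) = 1 * 1 := by
      rw [one_mul, ← h2]
      have hc := d.commute u.2 y.2
      calc (u : G) * u * ((y : G) * y) = (u : G) * ((u : G) * y) * y := by group
        _ = (u : G) * ((y : G) * u) * y := by rw [hc]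
        _ = (u : G) * y * ((u : G) * y) := by group
    have h4 := (d.eq_of_mul_eq (mul_mem u.2 u.2) (one_mem _) (mul_mem y.2 y.2) (one_mem _) h3).1
    have h5 : u * u = 1 := Subtype.ext h4
    obtain ⟨m, hm⟩ := hRodd
    have h6 : u ^ Rn = 1 := by rw [hRn]; exact pow_card_eq_one'
    rwa [hm, pow_succ, pow_mul, pow_two, h5, one_pow, one_mul] at h6
  -- signed pairs
  let one := H12.oneIrr G
  let k0 : {f : (R : Subgroup G) →* ℂˣ // f ≠ 1} → IrrCharacter G → ℤ := fun f χ =>
    if χ = one then 0 else k f.1 χ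
  have hsplit1 : ∀ (f : {f : (R : Subgroup G) →* ℂˣ // f ≠ 1}) (F : IrrCharacter G → ℤ),
      ∑ χ, k0 f χ * F χ = ∑ χ, k f.1 χ * F χ - F one := by
    intro f F
    rw [← Finset.add_sum_erase _ _ (Finset.mem_univ one),
      ← Finset.add_sum_erase _ (fun χ => k f.1 χ * F χ) (Finset.mem_univ one), hkone f.1 f.2]
    simp only [k0, if_true, one_mul, zero_mul]
    rw [zero_add, add_sub_cancel_left]
    refine Finset.sum_congr rfl fun χ hχ => ?_
    rw [if_neg (Finset.ne_of_mem_erase hχ)]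
  have hdotk0 : ∀ f g, ∑ χ, k0 f χ * k0 g χ = ∑ χ, k f.1 χ * k g.1 χ - 1 := by
    intro f g
    rw [hsplit1 f (k0 g)]
    have h := hsplit1 g (k f.1)
    rw [show ∑ χ, k f.1 χ * k0 g χ = ∑ χ, k0 g χ * k f.1 χ from
      Finset.sum_congr rfl fun _ _ => mul_comm _ _, h, hkone f.1 f.2,
      show ∑ χ, k g.1 χ * k f.1 χ = ∑ χ, k f.1 χ * k g.1 χ from
      Finset.sum_congr rfl fun _ _ => mul_comm _ _]
    simp [k0]
  let deg : IrrCharacter G → ℤ := fun χ => (charDegree (χ : G → ℂ) : ℤ)
  have hdegC : ∀ χ : IrrCharacter G, (χ : G → ℂ) 1 = (deg χ : ℂ) := fun χ => by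
    show (χ : G → ℂ) 1 = ((charDegree (χ : G → ℂ) : ℤ) : ℂ)
    rw [Int.cast_natCast]
    exact H24.irr_one χ
  have hdegone : deg one = 1 := by
    have h : (deg one : ℂ) = 1 := (hdegC one).symm.trans (H12.oneIrr_apply G 1)
    exact_mod_cast h
  have hdeg : ∀ f, ∑ χ, k0 f χ * deg χ = -1 := by
    intro f
    have h : ∑ χ, k f.1 χ * deg χ = 0 := by
      have h0 := (hexp f.1 1).symm.trans (hat1 f.1)
      simp only [hdegC] at h0
      exact_mod_cast h0
    rw [hsplit1 f deg, h, hdegone, zero_sub]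
  have hsq : ∀ f, ∑ χ, k0 f χ ^ 2 = 2 := by
    intro f
    simp only [sq]
    rw [hdotk0, hinner _ _ f.2 f.2, if_pos rfl, if_neg (hfne _ f.2)]
    norm_num
  have hint : ∀ f g, k0 f = k0 g ∨ ∑ χ, k0 f χ * k0 g χ = 1 := by
    intro f g
    by_cases hfg : f.1 = g.1 ∨ f.1 = g.1⁻¹
    · left
      have h3 : ∑ χ, k0 f χ * k0 g χ = 2 := by
        rw [hdotk0, hinner _ _ f.2 g.2]
        rcases hfg with e | e
        · rw [if_pos e, if_neg (e ▸ hfne _ f.2)]; norm_num
        · rw [if_neg (e ▸ (hfne _ g.2).symm), if_pos e]; norm_num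
      have h0 : ∑ χ, (k0 f χ - k0 g χ) ^ 2 = 0 := by
        have e : ∀ χ, (k0 f χ - k0 g χ) ^ 2 =
            k0 f χ ^ 2 + k0 g χ ^ 2 - 2 * (k0 f χ * k0 g χ) := fun χ => by ring
        rw [Finset.sum_congr rfl fun χ _ => e χ, Finset.sum_sub_distrib, Finset.sum_add_distrib,
          hsq, hsq, ← Finset.mul_sum, h3]
        norm_num
      funext χ
      have := (Finset.sum_eq_zero_iff_of_nonneg fun χ _ => sq_nonneg _).1 h0 χ (Finset.mem_univ χ)
      exact sub_eq_zero.1 (pow_eq_zero_iff two_ne_zero |>.1 this)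
    · right
      push Not at hfg
      rw [hdotk0, hinner _ _ f.2 g.2, if_neg hfg.1, if_neg hfg.2]
      norm_num
  obtain ⟨f0, hf0, g0, hg0, hfg0, hfg0'⟩ : ∃ f, f ≠ 1 ∧ ∃ g : (R : Subgroup G) →* ℂˣ,
      g ≠ 1 ∧ f ≠ g ∧ f ≠ g⁻¹ := by
    have hcard : 5 ≤ Fintype.card ((R : Subgroup G) →* ℂˣ) := by
      rw [← Nat.card_eq_fintype_card, card_dual hcomm]; exact hR5
    have h1 : ∃ f : (R : Subgroup G) →* ℂˣ, f ∈ (Finset.univ \ {1} : Finset _) := by
      refine Finset.card_pos.1 ?_
      rw [Finset.card_sdiff_of_subset (Finset.subset_univ _), Finset.card_univ,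
        Finset.card_singleton]
      omega
    obtain ⟨f, hf⟩ := h1
    have hf1 : f ≠ 1 := by simpa using hf
    have h2 : ∃ g : (R : Subgroup G) →* ℂˣ, g ∈ (Finset.univ \ {1, f, f⁻¹} : Finset _) := by
      refine Finset.card_pos.1 ?_
      have := Finset.le_card_sdiff ({1, f, f⁻¹} : Finset ((R : Subgroup G) →* ℂˣ)) Finset.univ
      have h3 : ({1, f, f⁻¹} : Finset ((R : Subgroup G) →* ℂˣ)).card ≤ 3 := Finset.card_le_three
      rw [Finset.card_univ] at this
      omega
    obtain ⟨g, hg⟩ := h2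
    simp only [Finset.mem_sdiff, Finset.mem_univ, Finset.mem_insert, Finset.mem_singleton, not_or,
      true_and] at hg
    refine ⟨f, hf1, g, hg.1, Ne.symm hg.2.1, fun e => hg.2.2 ?_⟩
    subst e
    exact (inv_inv g).symm
  have hinner00 : ∑ χ, k0 ⟨f0, hf0⟩ χ * k0 ⟨g0, hg0⟩ χ = 1 := by
    rw [hdotk0, hinner _ _ hf0 hg0, if_neg hfg0, if_neg hfg0']
    norm_num
  obtain ⟨X, δ, hδ, hΘ⟩ := common_member k0 deg hsq hdeg hint ⟨_, _, hinner00⟩
  choose Θ e hΘX he1 hkX hkΘ hkrest using hΘ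
  have hne1 : ∀ f χ, k0 f χ ≠ 0 → χ ≠ one := fun f χ h hc => h (if_pos hc)
  have hXone : X ≠ one := hne1 ⟨f0, hf0⟩ X (by rw [hkX]; omega)
  have hΘone : ∀ f, Θ f ≠ one := fun f => hne1 f _ (by rw [hkΘ]; have := he1 f; omega)
  have hkfull : ∀ (f : {f : (R : Subgroup G) →* ℂˣ // f ≠ 1}) (F : IrrCharacter G → ℂ),
      ∑ χ, (k f.1 χ : ℂ) * F χ = F one + (δ : ℂ) * F X + (e f : ℂ) * F (Θ f) := by
    intro f F
    have hk0 : ∀ χ, χ ≠ one → k f.1 χ = k0 f χ := fun χ h => (if_neg h).symm
    rw [← Finset.add_sum_erase _ _ (Finset.mem_univ one), hkone f.1 f.2, Int.cast_one, one_mul,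
      ← Finset.add_sum_erase _ _ (Finset.mem_erase.2 ⟨hXone, Finset.mem_univ X⟩), hk0 X hXone, hkX,
      ← Finset.add_sum_erase _ _ (Finset.mem_erase.2 ⟨hΘX f,
        Finset.mem_erase.2 ⟨hΘone f, Finset.mem_univ (Θ f)⟩⟩), hk0 _ (hΘone f), hkΘ,
      Finset.sum_eq_zero, add_zero, add_assoc]
    intro χ hχ
    simp only [Finset.mem_erase] at hχ
    rw [hk0 χ hχ.2.2.1, hkrest f χ hχ.2.1 hχ.1, Int.cast_zero, zero_mul]
  -- degrees
  set fN := charDegree (X : G → ℂ) with hfN
  have hnt : ∀ χ : IrrCharacter G, χ ≠ one → 2 ≤ charDegree (χ : G → ℂ) := by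
    intro χ hχ
    have h0 := H24.irr_pos χ
    by_contra h2
    obtain ⟨F, hF⟩ := H12.exists_monoidHom_of_apply_one_eq_one (H12.isCharacter_irr χ)
      (by rw [H24.irr_one, show charDegree (χ : G → ℂ) = 1 by omega, Nat.cast_one])
    refine hχ (Subtype.ext (funext fun x => ?_))
    have hker : x ∈ F.ker := Abelianization.commutator_subset_ker F (hperf.symm ▸ Subgroup.mem_top x)
    show (χ : G → ℂ) x = 1
    rw [← congrFun hF x]
    show ((F x : ℂˣ) : ℂ) = 1
    rw [MonoidHom.mem_ker.1 hker, Units.val_one]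
  have hfN2 : 2 ≤ fN := hnt X hXone
  have hed : ∀ f, e f * deg (Θ f) = -1 - δ * (fN : ℤ) := by
    intro f
    have h := hexp f.1 1
    rw [hat1, hkfull f (fun χ => (χ : G → ℂ) 1)] at h
    simp only [hdegC, hdegone, Int.cast_one] at h
    have h' : (1 : ℤ) + δ * (fN : ℤ) + e f * deg (Θ f) = 0 := by
      have h'' : ((1 + δ * deg X + e f * deg (Θ f) : ℤ) : ℂ) = 0 := by
        push_cast
        exact h.symm
      exact_mod_cast h''
    linarith
  have hef : ∀ f, e f = -δ := by
    intro f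
    have h := hed f
    have hpos : 2 ≤ deg (Θ f) := by
      show (2 : ℤ) ≤ (charDegree (Θ f : G → ℂ) : ℤ)
      exact_mod_cast hnt _ (hΘone f)
    rcases hδ with rfl | rfl <;> rcases he1 f with e1 | e1 <;> rw [e1] at h ⊢ <;> omega
  have hdΘ : ∀ f, deg (Θ f) = (fN : ℤ) + δ := by
    intro f
    have h := hed f
    rw [hef f] at h
    rcases hδ with rfl | rfl <;> omega
  set gN := charDegree (Θ ⟨f0, hf0⟩ : G → ℂ) with hgN
  have hgf : (gN : ℤ) = fN + δ := hdΘ ⟨f0, hf0⟩
  have hgN2 : 2 ≤ gN := hnt _ (hΘone _)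
  have hΘval : ∀ f, (Θ f : G → ℂ) z = (δ : ℂ) * (1 + δ * (X : G → ℂ) z) := by
    intro f
    have h := hexp f.1 z
    rw [hatz, hkfull f (fun χ => (χ : G → ℂ) z), hef f] at h
    simp only [one, H12.oneIrr_apply] at h
    rcases hδ with rfl | rfl <;> push_cast at h ⊢
    · linear_combination h
    · linear_combination -h
  have hΘ1 : ∀ f, (Θ f : G → ℂ) 1 = (gN : ℂ) := by
    intro f
    rw [hdegC, hdΘ f, ← hgf, Int.cast_natCast]
  have hAsum : ∀ (F : IrrCharacter G → ℂ) (c : ℂ),
      (∀ f : {f : (R : Subgroup G) →* ℂˣ // f ≠ 1}, ∑ χ, (k f.1 χ : ℂ) * F χ = c) →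
      ∀ u : (R : Subgroup G), u ≠ 1 → ∑ χ, F χ * A χ u = c := by
    intro F c hc u hu
    have hA : ∀ χ, A χ u = -∑ f : (R : Subgroup G) →* ℂˣ, (k f χ : ℂ) * (f u⁻¹ : ℂ) :=
      fun χ => fourier hcomm (A χ) _ (fun f => hkA f χ) hu
    have hc' : ∀ f : (R : Subgroup G) →* ℂˣ, ∑ χ, (k f χ : ℂ) * F χ = if f = 1 then 0 else c := by
      intro f
      split_ifs with hf
      · subst hf; simp [hk1]
      · exact hc ⟨f, hf⟩
    have h1 : ∑ χ, F χ * A χ u =
        -∑ f : (R : Subgroup G) →* ℂˣ, (∑ χ, (k f χ : ℂ) * F χ) * (f u⁻¹ : ℂ) := by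
      simp only [hA, mul_neg, Finset.sum_neg_distrib, Finset.mul_sum, Finset.sum_mul]
      rw [Finset.sum_comm]
      congr 1
      exact Finset.sum_congr rfl fun f _ => Finset.sum_congr rfl fun χ _ => by ring
    rw [h1]
    simp only [hc', ite_mul, zero_mul]
    have h2 : ∑ f : (R : Subgroup G) →* ℂˣ, (if f = 1 then 0 else c * (f u⁻¹ : ℂ)) =
        ∑ f : (R : Subgroup G) →* ℂˣ, (c * (f u⁻¹ : ℂ) - if f = 1 then c else 0) :=
      Finset.sum_congr rfl fun f _ => by split_ifs with hf <;> simp [hf]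
    rw [h2, Finset.sum_sub_distrib, ← Finset.mul_sum, sum_dual_eq_zero hcomm (inv_ne_one.2 hu),
      Finset.sum_ite_eq', if_pos (Finset.mem_univ _)]
    ring
  have hAX : ∀ u : (R : Subgroup G), u ≠ 1 → A X u = (δ : ℂ) := by
    intro u hu
    have h := hAsum (fun χ => if χ = X then 1 else 0) δ (fun f => by
      rw [hkfull f (fun χ => if χ = X then 1 else 0), if_neg (Ne.symm hXone), if_pos rfl,
        if_neg (hΘX f)]
      ring) u hu
    simpa using h
  have hXuy : ∀ u : (R : Subgroup G), u ≠ 1 → ∀ y : E, (X : G → ℂ) ((u : G) * y) = (δ : ℂ) := by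
    intro u hu y
    have hlam : ∀ (μ : IrrCharacter E), μ ≠ H12.oneIrr E → ∀ v : (R : Subgroup G), v ≠ 1 →
        classInner (μ : E → ℂ) (fun y : E => (X : G → ℂ) ((v : G) * y)) = 0 := by
      intro μ hμ v hv
      let γ : ((R : Subgroup G) →* ℂˣ) → G → ℂ := fun f => indFun C (d.phi f (μ : E → ℂ))
      have hγgen : ∀ f, IsGeneralizedCharacter G (γ f) := fun f =>
        H12.IsGeneralizedCharacter.indFun (d.isGeneralized_phi f (H12.isCharacter_irr μ))
      have hγcf : ∀ f, IsClassFunction G (γ f) := fun f => H12.indFun_isClassFunction _ _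
      choose c hc using fun f χ => ((H12.isGeneralizedCharacter_iff.1 (hγgen f)).2 χ)
      have hcA : ∀ (f : (R : Subgroup G) →* ℂˣ) (χ : IrrCharacter G), (Rn : ℂ)⁻¹ * ∑ u : (R : Subgroup G), (1 - (f u : ℂ)) *
          classInner (μ : E → ℂ) (fun y : E => (χ : G → ℂ) (u * y)) = (c f χ : ℂ) := by
        intro f χ
        rw [← d.classInner_phi f _ (χ : G → ℂ), ← H12.classInner_indFun _ _
          (H12.irr_isClassFunction χ)]
        exact hc f χ
      have hμ1 : classInner (μ : E → ℂ) (fun _ => 1) = 0 := H12.classInner_irr_ne hμ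
      have hcX : ∀ f, c f X = 0 := by
        intro f
        by_cases hf : f = 1
        · have h := hcA f X
          subst hf
          simp only [MonoidHom.one_apply, Units.val_one, sub_self, zero_mul, Finset.sum_const_zero,
            mul_zero] at h
          exact_mod_cast h.symm
        by_contra hne
        have hcone : c f one = 0 := by
          have h := hcA f one
          simp only [one, H12.oneIrr_apply, hμ1, mul_zero, Finset.sum_const_zero] at h
          exact_mod_cast h.symm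
        have horth : ∀ g : {f : (R : Subgroup G) →* ℂˣ // f ≠ 1}, c f (Θ g) = c f X := by
          intro g
          have h := H12.classInner_eq_sum_mul (hαcf g.1) (hγcf f)
          have h0 : classInner (α g.1) (γ f) = 0 := by
            rw [← H12.conj_classInner,
              d.classInner_ind hiN hinv hsplit hic f g.1 (μ : E → ℂ) (fun _ => 1) (fun _ _ => rfl)]
            simp [hμ1]
          rw [h0] at h
          simp only [hk, hc, map_intCast] at h
          rw [hkfull g (fun χ => (c f χ : ℂ)), hcone, hef g] at h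
          have h' : δ * c f X = δ * c f (Θ g) := by
            have h'' : ((δ * c f X : ℤ) : ℂ) = ((δ * c f (Θ g) : ℤ) : ℂ) := by
              push_cast at h ⊢
              linear_combination -h
            exact_mod_cast h''
          exact (mul_left_cancel₀ (by omega) h').symm
        have hnorm : ∑ χ, c f χ * c f χ ≤ 3 := by
          have h := H12.classInner_eq_sum_mul (hγcf f) (hγcf f)
          rw [d.classInner_ind hiN hinv hsplit hic f f _ _ (H12.irr_isClassFunction μ),
            classInner_one_sub hf hf, classInner_one_sub hf (fun h => hf (MonoidHom.ext fun u => inv_eq_one.1 (DFunLike.congr_fun h u))), if_pos rfl,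
            if_neg (hfne f hf), H12.classInner_irr_self,
            show (fun y => (μ : E → ℂ) (d.sigma hiN y)) = (H12.irrCongr (d.sigma hiN) μ : E → ℂ)
              from rfl, H12.classInner_irr] at h
          simp only [hc, map_intCast] at h
          have h' : ((∑ χ, c f χ * c f χ : ℤ) : ℂ) =
              ((2 + (if μ = H12.irrCongr (d.sigma hiN) μ then 1 else 0) : ℤ) : ℂ) := by
            push_cast
            rw [← h]
            ring
          have h'' := Int.cast_injective h'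
          split_ifs at h'' <;> omega
        have hΘne : Θ ⟨f0, hf0⟩ ≠ Θ ⟨g0, hg0⟩ := by
          intro heq
          have : k0 ⟨f0, hf0⟩ = k0 ⟨g0, hg0⟩ := by
            funext χ
            by_cases h1 : χ = X
            · rw [h1, hkX, hkX]
            by_cases h2 : χ = Θ ⟨f0, hf0⟩
            · subst h2
              rw [hkΘ, heq, hkΘ, hef, hef]
            · rw [hkrest _ χ h1 h2, hkrest _ χ h1 (heq ▸ h2)]
          have h1 := hinner00
          rw [this] at h1
          have h2 := hsq ⟨g0, hg0⟩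
          simp only [sq] at h2
          omega
        have hthree : ({X, Θ ⟨f0, hf0⟩, Θ ⟨g0, hg0⟩} : Finset (IrrCharacter G)).card = 3 :=
          Finset.card_eq_three.2 ⟨_, _, _, (hΘX _).symm, (hΘX _).symm, hΘne, rfl⟩
        set S : Finset (IrrCharacter G) := {X, Θ ⟨f0, hf0⟩, Θ ⟨g0, hg0⟩} with hS
        have hSval : ∀ χ ∈ S, c f χ = c f X := by
          intro χ hχ
          simp only [hS, Finset.mem_insert, Finset.mem_singleton] at hχ
          rcases hχ with rfl | rfl | rfl
          · rfl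
          · exact horth _
          · exact horth _
        have hSsum : ∑ χ ∈ S, c f χ * c f χ = 3 * (c f X * c f X) := by
          rw [Finset.sum_eq_card_nsmul fun χ hχ => by rw [hSval χ hχ], hthree, nsmul_eq_mul]
          norm_num
        have hsplitS := Finset.sum_add_sum_compl S (fun χ => c f χ * c f χ)
        have hpos : 1 ≤ c f X * c f X := by
          have := mul_self_pos.2 hne
          omega
        have hrest0 : ∑ χ ∈ Sᶜ, c f χ * c f χ = 0 := by
          have hnn : 0 ≤ ∑ χ ∈ Sᶜ, c f χ * c f χ := Finset.sum_nonneg fun χ _ => mul_self_nonneg _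
          omega
        have hout : ∀ χ, χ ∉ S → c f χ = 0 := fun χ hχ =>
          mul_self_eq_zero.1 ((Finset.sum_eq_zero_iff_of_nonneg fun χ _ => mul_self_nonneg _).1
            hrest0 χ (Finset.mem_compl.2 hχ))
        have h1 : γ f 1 = 0 := by
          show (Nat.card C : ℂ)⁻¹ * ∑ x : G, extendByZero C (d.phi f (μ : E → ℂ)) (x⁻¹ * 1 * x) = 0
          rw [Finset.sum_eq_zero, mul_zero]
          intro x _
          rw [mul_one, inv_mul_cancel, H12.extendByZero_mk C _ (one_mem C),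
            show (⟨1, one_mem C⟩ : C) = d.equiv 1 from (map_one d.equiv).symm, d.phi_apply]
          simp
        rw [H12.classFunction_apply_eq_sum (hγcf f) 1] at h1
        simp only [hc] at h1
        rw [← Finset.sum_subset (Finset.subset_univ S) (fun χ _ hχ => by
          rw [hout χ hχ, Int.cast_zero, zero_mul])] at h1
        rw [hS, Finset.sum_insert (by simp [(hΘX _).symm]), Finset.sum_pair hΘne, horth, horth,
          hΘ1, hΘ1, hdegC X] at h1
        have h2 : c f X * ((fN : ℤ) + (gN + gN)) = 0 := by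
          have : ((c f X * ((fN : ℤ) + (gN + gN)) : ℤ) : ℂ) = 0 := by
            push_cast
            rw [show ((fN : ℕ) : ℂ) = (deg X : ℂ) by simp [deg, hfN]]
            linear_combination h1
          exact_mod_cast this
        rcases mul_eq_zero.1 h2 with h | h
        · exact hne h
        · omega
      have := fourier hcomm (fun v => classInner (μ : E → ℂ) (fun y : E => (X : G → ℂ) ((v : G) * y)))
        (fun f => (c f X : ℂ)) (fun f => hcA f X) hv
      simpa [hcX] using this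
    have hcf : IsClassFunction E (fun y : E => (X : G → ℂ) ((u : G) * y)) := by
      intro y w
      refine H12.IsClassFunction.of_isConj (H12.irr_isClassFunction X) (isConj_iff.2 ⟨(w : G)⁻¹, ?_⟩)
      have hc := d.commute u.2 w.2
      show (w : G)⁻¹ * ((u : G) * ((w * y * w⁻¹ : E) : G)) * (w : G)⁻¹⁻¹ = (u : G) * y
      simp only [Subgroup.coe_mul, Subgroup.coe_inv, inv_inv]
      calc (w : G)⁻¹ * ((u : G) * ((w : G) * y * (w : G)⁻¹)) * w
          = (w : G)⁻¹ * ((u : G) * w) * y := by group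
        _ = (w : G)⁻¹ * ((w : G) * u) * y := by rw [hc]
        _ = (u : G) * y := by group
    rw [show (X : G → ℂ) ((u : G) * y) = _ from H12.classFunction_apply_eq_sum hcf y,
      Finset.sum_eq_single (H12.oneIrr E)]
    · rw [H12.oneIrr_apply, mul_one, ← H12.conj_classInner]
      show conj (A X u) = _
      rw [hAX u hu, map_intCast]
    · intro μ _ hμ
      rw [← H12.conj_classInner, hlam μ hμ u hu, map_zero, zero_mul]
    · intro h; exact absurd (Finset.mem_univ _) h
  have hXu : ∀ u : (R : Subgroup G), u ≠ 1 → (X : G → ℂ) (u : G) = (δ : ℂ) := fun u hu => by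
    have := hXuy u hu 1
    rwa [OneMemClass.coe_one, mul_one] at this
  have hsumX : ∑ u : (R : Subgroup G), (X : G → ℂ) (u : G) = (fN : ℂ) + ((Rn : ℂ) - 1) * δ := by
    rw [← Finset.add_sum_erase _ _ (Finset.mem_univ (1 : (R : Subgroup G))),
      Finset.sum_congr rfl (g := fun _ => (δ : ℂ)) fun u hu => hXu u (Finset.ne_of_mem_erase hu),
      OneMemClass.coe_one, hdegC, Finset.sum_const, Finset.card_erase_of_mem (Finset.mem_univ _),
      Finset.card_univ, ← Nat.card_eq_fintype_card, nsmul_eq_mul,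
      Nat.cast_sub (Nat.card_pos : 0 < Rn), Nat.cast_one]
    simp only [deg, hfN, Int.cast_natCast]
    rw [← hRn]
  obtain ⟨m0, hm0⟩ := sum_restrict X (R : Subgroup G).subtype
  simp only [Subgroup.coe_subtype] at hm0
  rw [hsumX] at hm0
  have hRdvd : (Rn : ℤ) ∣ (fN : ℤ) - δ := by
    refine ⟨(m0 : ℤ) - δ, ?_⟩
    have : (((fN : ℤ) - δ : ℤ) : ℂ) = (((Rn : ℤ) * ((m0 : ℤ) - δ) : ℤ) : ℂ) := by
      push_cast
      linear_combination hm0
    exact_mod_cast this
  have hrR : (r : ℤ) ∣ (Rn : ℤ) := by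
    have h : r ∣ Rn := by
      rw [hRpow]
      rcases a with _ | a
      · rw [pow_zero] at hRpow; omega
      · exact dvd_pow_self r (Nat.succ_ne_zero a)
    exact_mod_cast h
  have hr3 : 3 ≤ r := by
    have := d.prime.two_le
    have := d.ne_two
    omega
  have hnr : ¬ r ∣ fN ∧ ¬ r ∣ gN := by
    constructor
    · intro h
      have h' : (r : ℤ) ∣ δ := by
        have := (Int.natCast_dvd_natCast.2 h).sub (hrR.trans hRdvd)
        rwa [sub_sub_cancel] at this
      have := Int.le_of_dvd one_pos (by rcases hδ with rfl | rfl <;> simpa using h')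
      omega
    · intro h
      have h' : (r : ℤ) ∣ 2 * δ := by
        have := (Int.natCast_dvd_natCast.2 h).sub (hrR.trans hRdvd)
        rwa [hgf, show (fN : ℤ) + δ - ((fN : ℤ) - δ) = 2 * δ by ring] at this
      have := Int.le_of_dvd two_pos (by rcases hδ with rfl | rfl <;> simpa using h')
      omega
  have hprimes : ∀ χ : IrrCharacter G, ¬ r ∣ charDegree (χ : G → ℂ) →
      ∀ p, p.Prime → p ∣ charDegree (χ : G → ℂ) → p = 2 ∨ p = t := by
    intro χ hr' p hp hpd
    have hm : p ∈ (Nat.card G).primeFactors := Nat.mem_primeFactors.2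
      ⟨hp, hpd.trans (H24.charDegree_dvd_card χ), Nat.card_pos.ne'⟩
    rw [hπ] at hm
    simp only [Finset.mem_insert, Finset.mem_singleton] at hm
    rcases hm with h | h | h
    · exact Or.inl h
    · exact absurd (h ▸ hpd) hr'
    · exact Or.inr h
  obtain ⟨x, y, hx, hy, hfg⟩ := two_pow_or htF.out ht2 (f := fN) (g := gN)
    (by rcases hδ with rfl | rfl <;> omega) hfN2 hgN2 (hprimes X hnr.1) (hprimes _ hnr.2)
  -- values at `z` and the count
  have hindex : Nat.card (Q : Subgroup G) * (Subgroup.centralizer ({z} : Set G)).index =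
      Nat.card G := by rw [hzQ, Subgroup.card_mul_index]
  set K := (Subgroup.centralizer ({z} : Set G)).index with hK
  have hK2 : Nat.Coprime (2 ^ x) K := by
    refine Nat.Coprime.pow_left x ?_
    rw [Nat.prime_two.coprime_iff_not_dvd, hK, hzQ]
    exact Q.not_dvd_index
  let Fz : IrrCharacter G → ℂ := fun χ => (χ : G → ℂ) z * (χ : G → ℂ) z / (χ : G → ℂ) 1
  have hCval : ∀ f : {f : (R : Subgroup G) →* ℂˣ // f ≠ 1},
      ∑ χ, (k f.1 χ : ℂ) * Fz χ = (2 : ℂ) ^ x / (t : ℂ) ^ y := by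
    intro f
    rw [hkfull f Fz, hef f]
    show (one : G → ℂ) z * (one : G → ℂ) z / (one : G → ℂ) 1 +
      δ * ((X : G → ℂ) z * (X : G → ℂ) z / (X : G → ℂ) 1) +
      ((-δ : ℤ) : ℂ) * ((Θ f : G → ℂ) z * (Θ f : G → ℂ) z / (Θ f : G → ℂ) 1) = _
    simp only [one, H12.oneIrr_apply]
    have hf0' : (fN : ℂ) ≠ 0 := Nat.cast_ne_zero.2 (by omega)
    have hg0' : (gN : ℂ) ≠ 0 := Nat.cast_ne_zero.2 (by omega)
    have hgC : (gN : ℂ) = (fN : ℂ) + δ := by exact_mod_cast congrArg (fun n : ℤ => (n : ℂ)) hgf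
    have hX1 : (X : G → ℂ) 1 = (fN : ℂ) := by rw [hdegC]; simp [deg, hfN]
    rw [hX1, hΘ1, hΘval]
    rcases hfg with ⟨e1, e2⟩ | ⟨e1, e2⟩
    · have hXz : (X : G → ℂ) z = 0 := by
        refine H19.PrimeDeg.burnside hna X hXone hz1 ?_
        show Nat.Coprime fN K
        rw [e1]; exact hK2
      rw [show (2 : ℂ) ^ x = (fN : ℂ) by rw [e1]; push_cast; ring,
        show (t : ℂ) ^ y = (gN : ℂ) by rw [e2]; push_cast; ring, hXz, eq_div_iff hg0']
      rcases hδ with rfl | rfl <;> push_cast at hgC ⊢ <;> field_simp <;> rw [hgC] <;> ring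
    · have hTz : (Θ f : G → ℂ) z = 0 := by
        refine H19.PrimeDeg.burnside hna (Θ f) (hΘone f) hz1 ?_
        show Nat.Coprime (charDegree (Θ f : G → ℂ)) K
        have : charDegree (Θ f : G → ℂ) = gN := by
          have := hdΘ f
          rw [← hgf] at this
          exact Int.natCast_inj.1 this
        rw [this, e2]; exact hK2
      have hXz : (X : G → ℂ) z = -(δ : ℂ) := by
        have h := hΘval f
        rw [hTz] at h
        rcases hδ with rfl | rfl <;> push_cast at h ⊢ <;> linear_combination -h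
      rw [show (2 : ℂ) ^ x = (gN : ℂ) by rw [e2]; push_cast; ring,
        show (t : ℂ) ^ y = (fN : ℂ) by rw [e1]; push_cast; ring, hXz, eq_div_iff hf0']
      rcases hδ with rfl | rfl <;> push_cast at hgC ⊢ <;> field_simp <;> rw [hgC] <;> ring
  haveI : Nontrivial (R : Subgroup G) := by
    rw [← Finite.one_lt_card_iff_nontrivial]; omega
  obtain ⟨u1, hu1⟩ := exists_ne (1 : (R : Subgroup G))
  let N : ℕ := ∑ w : E, H24.classMult z z ((u1 : G) * w)
  have hN : N * Nat.card (Q : Subgroup G) * Nat.card (Q : Subgroup G) * t ^ y =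
      Nat.card G * Nat.card E * 2 ^ x := by
    have h : (N : ℂ) * (Nat.card G : ℂ) =
        (K : ℂ) * (K : ℂ) * ((Nat.card E : ℂ) * ((2 : ℂ) ^ x / (t : ℂ) ^ y)) := by
      rw [← hAsum Fz _ hCval u1 hu1]
      show ((∑ w : E, H24.classMult z z ((u1 : G) * w) : ℕ) : ℂ) * _ = _
      push_cast
      rw [Finset.sum_mul]
      simp only [H24.classMult_eq, ← Finset.mul_sum, ← hK]
      rw [Finset.sum_comm]
      congr 1
      rw [Finset.mul_sum]
      refine Finset.sum_congr rfl fun χ _ => ?_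
      show _ = (Nat.card E : ℂ) * (Fz χ * classInner _ _)
      rw [H12.classInner_def, mul_left_comm (Nat.card E : ℂ), mul_inv_cancel_left₀
        (Nat.cast_ne_zero.2 Nat.card_pos.ne'), Finset.mul_sum]
      refine Finset.sum_congr rfl fun w _ => ?_
      show _ = (χ : G → ℂ) z * (χ : G → ℂ) z / (χ : G → ℂ) 1 * (1 * conj ((χ : G → ℂ) (u1 * w)))
      ring
    have hQK : (Nat.card (Q : Subgroup G) : ℂ) * (K : ℂ) = (Nat.card G : ℂ) := by
      exact_mod_cast hindex
    have ht0 : (t : ℂ) ^ y ≠ 0 := pow_ne_zero _ (Nat.cast_ne_zero.2 htF.out.ne_zero)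
    have hG0 : (Nat.card G : ℂ) ≠ 0 := Nat.cast_ne_zero.2 Nat.card_pos.ne'
    have h2 : ((N * Nat.card (Q : Subgroup G) * Nat.card (Q : Subgroup G) * t ^ y : ℕ) : ℂ) =
        ((Nat.card G * Nat.card E * 2 ^ x : ℕ) : ℂ) := by
      push_cast
      apply mul_right_cancel₀ hG0
      field_simp at h
      linear_combination (Nat.card (Q : Subgroup G) : ℂ) ^ 2 * h +
        (Nat.card E : ℂ) * (2 : ℂ) ^ x *
          ((Nat.card (Q : Subgroup G) : ℂ) * (K : ℂ) + (Nat.card G : ℂ)) * hQK
    exact_mod_cast h2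
  set Qn := Nat.card (Q : Subgroup G) with hQn
  set Tn := Nat.card (T : Subgroup G) with hTn
  have hG : Nat.card G = Qn * Rn * Tn := card_eq_mul d.ne_two ht2 hrt hπ Q R T
  have hN' : N * Qn * t ^ y = Rn * Tn * Nat.card E * 2 ^ x := by
    have h := hN
    rw [hG] at h
    refine Nat.eq_of_mul_eq_mul_left (Nat.card_pos : 0 < Qn) ?_
    calc Qn * (N * Qn * t ^ y) = N * Qn * Qn * t ^ y := by ring
      _ = Qn * Rn * Tn * Nat.card E * 2 ^ x := h
      _ = Qn * (Rn * Tn * Nat.card E * 2 ^ x) := by ring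
  obtain ⟨b, hb⟩ := IsPGroup.iff_card.1 Q.2
  have hQpow : Qn = 2 ^ b := hb
  obtain ⟨eE, heE⟩ := IsPGroup.iff_card.1 d.two
  have htyT : t ^ y ∣ Tn := by
    have h1 : t ^ y ∣ Rn * Tn * Nat.card E * 2 ^ x := ⟨N * Qn, by rw [← hN']; ring⟩
    have c2 : (t ^ y).Coprime (2 ^ x) :=
      Nat.Coprime.pow _ _ ((Nat.coprime_primes htF.out Nat.prime_two).2 ht2)
    have cE : (t ^ y).Coprime (Nat.card E) := by
      rw [heE]
      exact Nat.Coprime.pow _ _ ((Nat.coprime_primes htF.out Nat.prime_two).2 ht2)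
    have cR : (t ^ y).Coprime Rn := by
      rw [hRpow]
      exact Nat.Coprime.pow _ _ ((Nat.coprime_primes htF.out d.prime).2 hrt.symm)
    exact cR.dvd_of_dvd_mul_left (cE.dvd_of_dvd_mul_right (c2.dvd_of_dvd_mul_right h1))
  refine ⟨x, y, fN, gN, hx, hy, hfg, ?_, htyT, ?_, ?_⟩
  · rcases hδ with rfl | rfl
    · refine Or.inl ⟨by omega, ?_⟩
      rw [← Int.natCast_dvd_natCast, Nat.cast_sub (by omega)]
      simpa using hRdvd
    · refine Or.inr ⟨by omega, ?_⟩
      rw [← Int.natCast_dvd_natCast]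
      simpa using hRdvd
  · intro hE
    subst hE
    have hNle : N ≤ Rn := by
      have hNeq : N = H24.classMult z z (u1 : G) := by
        show ∑ w : (⊥ : Subgroup G), H24.classMult z z ((u1 : G) * w) = _
        rw [Fintype.sum_subsingleton _ (1 : (⊥ : Subgroup G)), OneMemClass.coe_one, mul_one]
      rw [hNeq]
      have hCR : C = (R : Subgroup G) := by rw [hC, ← d.cent_eq, sup_bot_eq]
      have hmem : ∀ a : {ab : G × G // IsConj z ab.1 ∧ IsConj z ab.2 ∧ ab.1 * ab.2 = (u1 : G)},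
          i⁻¹ * a.1.1 ∈ (R : Subgroup G) := by
        rintro ⟨⟨p, q⟩, hp, hq, hpq⟩
        simp only at hp hq hpq ⊢
        have hinvol : ∀ w, IsConj z w → w * w = 1 := by
          intro w hw
          obtain ⟨c, rfl⟩ := isConj_iff.1 hw
          rw [show c * z * c⁻¹ * (c * z * c⁻¹) = c * (z * z) * c⁻¹ by group, hz2]
          group
        have hpi : p⁻¹ = p := inv_eq_of_mul_eq_one_right (hinvol p hp)
        have hq' : q = p * (u1 : G) := by rw [← hpq, ← mul_assoc, hinvol p hp, one_mul]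
        have hu1' : (u1 : G) ≠ 1 := fun h => hu1 (Subtype.ext h)
        have hconj : p * (u1 : G) * p⁻¹ = (u1 : G)⁻¹ := by
          have h2 := hinvol q hq
          rw [hq', show p * (u1 : G) * (p * (u1 : G)) = p * (u1 : G) * p * (u1 : G) by group] at h2
          rw [hpi]
          exact eq_inv_of_mul_eq_one_left h2
        have hpN := d.conj_mem_normalizer u1.2 hu1' (one_mem (⊥ : Subgroup G)) (g := p) (by
          rw [mul_one, hconj]; exact inv_mem (d.le_cent u1.2))
        rcases hsplit p hpN with h | h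
        · exfalso
          have h2 := (Subgroup.mem_centralizer_iff.1 h) (u1 : G) u1.2
          rw [← h2, mul_inv_cancel_right, eq_inv_iff_mul_eq_one] at hconj
          obtain ⟨m, hm⟩ := hRodd
          have h6 : u1 ^ Rn = 1 := by rw [hRn]; exact pow_card_eq_one'
          rw [hm, pow_succ, pow_mul, pow_two, show u1 * u1 = 1 from Subtype.ext hconj, one_pow,
            one_mul] at h6
          exact hu1 h6
        · exact hCR ▸ h
      refine Nat.card_le_card_of_injective (fun a => (⟨i⁻¹ * a.1.1, hmem a⟩ : (R : Subgroup G))) ?_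
      rintro ⟨⟨p, q⟩, hp, hq, hpq⟩ ⟨⟨p', q'⟩, hp', hq', hpq'⟩ h
      simp only at hpq hpq'
      have h1 : p = p' := mul_left_cancel (congrArg Subtype.val h)
      subst h1
      have h2 : q = q' := mul_left_cancel (hpq.trans hpq'.symm)
      subst h2
      rfl
    rw [Subgroup.card_bot, mul_one] at hN'
    have hNR : Rn ∣ N := by
      have h1 : Rn ∣ N * Qn * t ^ y := ⟨Tn * 2 ^ x, by rw [hN']; ring⟩
      have c1 : Rn.Coprime (t ^ y) := by
        rw [hRpow]; exact Nat.Coprime.pow _ _ ((Nat.coprime_primes d.prime htF.out).2 hrt)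
      have c2 : Rn.Coprime Qn := by
        rw [hRpow, hQpow]
        exact Nat.Coprime.pow _ _ ((Nat.coprime_primes d.prime Nat.prime_two).2 d.ne_two)
      exact c2.dvd_of_dvd_mul_right (c1.dvd_of_dvd_mul_right h1)
    have hN0 : N ≠ 0 := fun h => by
      rw [h, zero_mul, zero_mul] at hN'
      have h1 : 0 < Rn * Tn * 2 ^ x :=
        Nat.mul_pos (Nat.mul_pos Nat.card_pos Nat.card_pos) (Nat.two_pow_pos x)
      omega
    have hNeqR : N = Rn := le_antisymm hNle (Nat.le_of_dvd (Nat.pos_of_ne_zero hN0) hNR)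
    rw [hNeqR, mul_assoc, mul_assoc] at hN'
    have h2 : Qn * t ^ y = Tn * 2 ^ x := Nat.eq_of_mul_eq_mul_left (Nat.card_pos : 0 < Rn) hN'
    have hTt : Tn ∣ t ^ y := by
      obtain ⟨bT, hbT⟩ := IsPGroup.iff_card.1 T.2
      refine Nat.Coprime.dvd_of_dvd_mul_left ?_ (⟨2 ^ x, h2⟩ : Tn ∣ Qn * t ^ y)
      rw [hQpow, show Tn = t ^ bT from hbT]
      exact Nat.Coprime.pow _ _ ((Nat.coprime_primes htF.out Nat.prime_two).2 ht2)
    have hTeq : Tn = t ^ y := Nat.dvd_antisymm hTt htyT
    rw [hTeq, mul_comm] at h2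
    exact ⟨Nat.eq_of_mul_eq_mul_left (pow_pos htF.out.pos y) h2, hTeq⟩
  · intro hlt
    by_contra hE
    have hcardE : 1 < Nat.card E := E.one_lt_card_iff_ne_bot.2 hE
    have h2E : 2 ∣ Nat.card E := by
      rw [heE]
      refine dvd_pow_self 2 fun h => ?_
      rw [heE, h, pow_zero] at hcardE
      omega
    obtain ⟨yE, hyE⟩ := exists_prime_orderOf_dvd_card' (G := E) 2 h2E
    have hy2 : yE * yE = 1 := by rw [← sq, ← hyE, pow_orderOf_eq_one]
    have hy1 : yE ≠ 1 := fun h => by rw [h, orderOf_one] at hyE; omega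
    obtain ⟨k4, hk4⟩ := four_dvd_involution hperf X (y := (yE : G))
      (by rw [← Subgroup.coe_mul, hy2, Subgroup.coe_one])
    let ι : ↥(R : Subgroup G) × Subgroup.zpowers yE →* G :=
      C.subtype.comp (d.mulHom.comp (MonoidHom.prodMap (MonoidHom.id _) (Subgroup.zpowers yE).subtype))
    haveI : Fintype (Subgroup.zpowers yE) := Fintype.ofFinite _
    obtain ⟨n2, hn2⟩ := sum_restrict X ι
    have hZcard : Fintype.card (Subgroup.zpowers yE) = 2 := by
      rw [← Nat.card_eq_fintype_card, Nat.card_zpowers, hyE]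
    have hZuniv : (Finset.univ : Finset (Subgroup.zpowers yE)) =
        {1, ⟨yE, Subgroup.mem_zpowers yE⟩} := by
      refine (Finset.eq_of_subset_of_card_le (Finset.subset_univ _) ?_).symm
      rw [Finset.card_univ, hZcard, Finset.card_pair]
      exact fun h => hy1 (congrArg Subtype.val h).symm
    have hsum2 : ∑ p : ↥(R : Subgroup G) × Subgroup.zpowers yE, (X : G → ℂ) (ι p) =
        ((fN : ℂ) + ((Rn : ℂ) - 1) * δ) + ((X : G → ℂ) yE + ((Rn : ℂ) - 1) * δ) := by
      rw [Fintype.sum_prod_type_right, hZuniv,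
        Finset.sum_pair (fun h => hy1 (congrArg Subtype.val h).symm)]
      congr 1
      · rw [← hsumX]
        refine Finset.sum_congr rfl fun u _ => ?_
        refine congrArg (X : G → ℂ) ?_
        show ((u : G) * ((1 : E) : G)) = (u : G)
        rw [OneMemClass.coe_one, mul_one]
      · rw [← Finset.add_sum_erase _ _ (Finset.mem_univ (1 : (R : Subgroup G))),
          Finset.sum_congr rfl (f := fun u : ↥(R : Subgroup G) =>
            (X : G → ℂ) (ι (u, ⟨yE, Subgroup.mem_zpowers yE⟩))) (g := fun _ => (δ : ℂ))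
            (fun u hu => (hXuy u (Finset.ne_of_mem_erase hu) yE :
              (X : G → ℂ) (ι (u, ⟨yE, Subgroup.mem_zpowers yE⟩)) = δ)),
          Finset.sum_const, Finset.card_erase_of_mem (Finset.mem_univ _), Finset.card_univ,
          ← Nat.card_eq_fintype_card, nsmul_eq_mul, Nat.cast_sub (Nat.card_pos : 0 < Rn),
          Nat.cast_one]
        congr 1
        refine congrArg (X : G → ℂ) ?_
        show ((1 : (R : Subgroup G)) : G) * (yE : G) = (yE : G)
        rw [OneMemClass.coe_one, one_mul]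
    rw [hsum2, Nat.card_prod, Nat.card_eq_fintype_card (α := Subgroup.zpowers yE), hZcard] at hn2
    push_cast at hn2
    have hX1 : (X : G → ℂ) 1 = (fN : ℂ) := by rw [hdegC]; simp [deg, hfN]
    rw [hX1] at hk4
    have hrel : 4 * (k4 : ℤ) = 2 * (Rn : ℤ) * ((m0 : ℤ) - n2) := by
      have : ((4 * (k4 : ℤ) : ℤ) : ℂ) = ((2 * (Rn : ℤ) * ((m0 : ℤ) - n2) : ℤ) : ℂ) := by
        push_cast
        linear_combination -hk4 + 2 * hm0 - hn2
      exact_mod_cast this
    have hbound : (k4 : ℤ) * 2 ≤ fN := by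
      have h := H12.IsCharacter.norm_le (H12.isCharacter_irr X) (yE : G)
      rw [show (X : G → ℂ) (yE : G) = (fN : ℂ) - 4 * k4 by linear_combination -hk4,
        show H12.degree (X : G → ℂ) = fN from rfl,
        show (fN : ℂ) - 4 * k4 = (((fN : ℤ) - 4 * k4 : ℤ) : ℝ) by push_cast; ring,
        Complex.norm_real, Real.norm_eq_abs, ← Int.cast_abs,
        show ((fN : ℕ) : ℝ) = (((fN : ℤ)) : ℝ) by push_cast; rfl, Int.cast_le] at h
      have := (abs_le.1 h).1
      omega
    obtain ⟨m, hm⟩ := hRodd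
    have hk0' : k4 = 0 := by
      by_contra hne
      have hj : (2 : ℤ) ∣ (m0 : ℤ) - n2 := by
        have hd : (2 : ℤ) ∣ (Rn : ℤ) * ((m0 : ℤ) - n2) := ⟨k4, by linarith⟩
        refine (Int.prime_two.dvd_or_dvd hd).resolve_left ?_
        omega
      obtain ⟨j, hj⟩ := hj
      rw [hj] at hrel
      have hk : (k4 : ℤ) = (Rn : ℤ) * j := by linarith
      have hjpos : 0 < j := by
        by_contra hj0
        have : (Rn : ℤ) * j ≤ 0 := mul_nonpos_iff.2 (Or.inl ⟨by omega, by omega⟩)
        omega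
      have : (Rn : ℤ) ≤ k4 := by
        rw [hk]
        exact le_mul_of_one_le_right (by omega) hjpos
      omega
    rw [hk0', Nat.cast_zero, mul_zero, sub_eq_zero] at hk4
    have hker : (yE : G) ∈ H24.kerChar X := H24.mem_kerChar.2 (hk4.symm.trans hX1.symm)
    rcases (inferInstance : (H24.kerChar X).Normal).eq_bot_or_eq_top with hb | htop
    · rw [hb, Subgroup.mem_bot] at hker
      exact hy1 (Subtype.ext hker)
    · have h := H24.mem_kerChar.1 (htop ▸ Subgroup.mem_top (u1 : G))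
      rw [hXu u1 hu1, hX1] at h
      have h' : (fN : ℤ) = δ := by exact_mod_cast h.symm
      omega

end H72.TwoPrime
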