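import Cfsg.Agent.H72.TwoPrime.Basic
import Cfsg.Agent.H12.Orth
import Cfsg.Agent.H12.Linear
import Cfsg.Agent.H12.Transport
import Cfsg.Agent.H14.DetChar

/-!
Auxiliary lemmas for the exceptional characters: Fourier inversion on a finite abelian group,
signed pairs of constituents, and the parity of an involution trace in a perfect group.
-/

set_option autoImplicit false
set_option linter.unusedSectionVars false
set_option linter.style.haveILetI false

open Cfsg Module
open scoped ComplexConjugate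

namespace H72.TwoPrime

universe u

section Involution

theorem trace_det_of_sq_one {V : Type*} [AddCommGroup V] [Module ℂ V] [FiniteDimensional ℂ V]
    (T : Module.End ℂ V) (hT : T * T = 1) :
    ∃ m : ℕ, LinearMap.det T = (-1) ^ m ∧ (finrank ℂ V : ℂ) - LinearMap.trace ℂ V T = 2 * m := by
  classical
  have hTv : ∀ v, T (T v) = v := fun v => LinearMap.congr_fun hT v
  set A : Submodule ℂ V := LinearMap.ker (T - 1) with hA
  set B : Submodule ℂ V := LinearMap.ker (T + 1) with hB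
  have memA : ∀ v, v ∈ A ↔ T v = v := fun v => by simp [hA, sub_eq_zero]
  have memB : ∀ v, v ∈ B ↔ T v = -v := fun v => by simp [hB, add_eq_zero_iff_eq_neg]
  have hc : IsCompl A B := by
    refine ⟨disjoint_iff.2 ((Submodule.eq_bot_iff _).2 fun v hv => ?_),
      codisjoint_iff.2 (Submodule.eq_top_iff'.2 fun v => ?_)⟩
    · obtain ⟨h1, h2⟩ := Submodule.mem_inf.1 hv
      rw [memA] at h1
      rw [memB, h1] at h2
      have h3 : (2 : ℂ) • v = 0 := by
        rw [two_smul]
        exact eq_neg_iff_add_eq_zero.1 h2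
      exact (smul_eq_zero.1 h3).resolve_left two_ne_zero
    · refine Submodule.mem_sup.2 ⟨(2 : ℂ)⁻¹ • (v + T v), ?_, (2 : ℂ)⁻¹ • (v - T v), ?_, ?_⟩
      · rw [memA, map_smul, map_add, hTv, add_comm]
      · rw [memB, map_smul, map_sub, hTv, ← smul_neg, neg_sub]
      · rw [← smul_add, add_add_sub_cancel, ← two_smul ℂ v, smul_smul]
        norm_num
  let e := Submodule.prodEquivOfIsCompl A B hc
  set D : Module.End ℂ (A × B) := (LinearMap.id : Module.End ℂ A).prodMap (-LinearMap.id) with hD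
  have hT' : e.conj D = T := by
    refine LinearMap.ext fun v => ?_
    obtain ⟨⟨a, b⟩, rfl⟩ := e.surjective v
    rw [LinearEquiv.conj_apply_apply, e.symm_apply_apply]
    show (a : V) + ((-b : B) : V) = T ((a : V) + (b : V))
    rw [map_add, (memA _).1 a.2, (memB _).1 b.2]
    rfl
  refine ⟨finrank ℂ B, ?_, ?_⟩
  · rw [← hT', LinearEquiv.conj_apply, LinearMap.comp_assoc, LinearMap.det_conj, hD,
      LinearMap.det_prodMap, LinearMap.det_id, one_mul,
      show (-LinearMap.id : Module.End ℂ B) = (-1 : ℂ) • LinearMap.id from (neg_one_smul ℂ _).symm,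
      LinearMap.det_smul, LinearMap.det_id, mul_one]
  · have hdim : finrank ℂ V = finrank ℂ A + finrank ℂ B := by
      rw [← e.finrank_eq, Module.finrank_prod]
    rw [← hT', LinearMap.trace_conj', hD, LinearMap.trace_prodMap', LinearMap.trace_id, map_neg,
      LinearMap.trace_id, hdim]
    push_cast
    ring

/-- In a perfect group `χ 1 - χ y` is a multiple of `4` for an involution `y`. -/
theorem four_dvd_involution {G : Type u} [Group G] [Finite G] (hperf : commutator G = ⊤)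
    (χ : IrrCharacter G) {y : G} (hy : y * y = 1) :
    ∃ k : ℕ, (χ : G → ℂ) 1 - (χ : G → ℂ) y = 4 * k := by
  obtain ⟨n, ρ, hρ, hχ⟩ := χ.2
  have hsq : ρ y * ρ y = 1 := by rw [← map_mul, hy, map_one]
  obtain ⟨m, hm1, hm2⟩ := trace_det_of_sq_one (ρ y) hsq
  have hdet : LinearMap.det (ρ y) = 1 := by
    have hk : y ∈ (H14.detHom ρ).ker :=
      (Abelianization.commutator_subset_ker (H14.detHom ρ)) (hperf.symm ▸ Subgroup.mem_top y)
    have := congrArg Units.val (MonoidHom.mem_ker.mp hk)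
    rwa [H14.detHom_apply, Units.val_one] at this
  rw [hdet] at hm1
  have hev : Even m := by
    by_contra hodd
    rw [Nat.not_even_iff_odd] at hodd
    rw [hodd.neg_one_pow] at hm1
    norm_num at hm1
  obtain ⟨k, rfl⟩ := hev
  refine ⟨k, ?_⟩
  rw [← hχ, Representation.char_one]
  show _ - LinearMap.trace ℂ _ (ρ y) = _
  rw [hm2]
  push_cast
  ring

end Involution

section Fourier

variable {A : Type u} [Group A] [Fintype A]

theorem sum_hom_eq_zero {f : A →* ℂˣ} (hf : f ≠ 1) : ∑ a : A, (f a : ℂ) = 0 := by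
  obtain ⟨b, hb⟩ : ∃ b, f b ≠ 1 := by
    by_contra hc
    push Not at hc
    exact hf (MonoidHom.ext hc)
  have h : (f b : ℂ) * ∑ a : A, (f a : ℂ) = ∑ a : A, (f a : ℂ) := by
    rw [Finset.mul_sum]
    refine Fintype.sum_equiv (Equiv.mulLeft b) _ _ fun a => ?_
    simp [map_mul]
  have hb' : (f b : ℂ) - 1 ≠ 0 := sub_ne_zero.2 fun h => hb (Units.ext h)
  have : ((f b : ℂ) - 1) * ∑ a : A, (f a : ℂ) = 0 := by rw [sub_mul, h, one_mul, sub_self]
  exact (mul_eq_zero.1 this).resolve_left hb'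

theorem exists_hom_ne_one (hcomm : ∀ a b : A, a * b = b * a) {a : A} (ha : a ≠ 1) :
    ∃ f : A →* ℂˣ, f a ≠ 1 := by
  letI : CommGroup A := { (inferInstance : Group A) with mul_comm := hcomm }
  haveI : NeZero (Monoid.exponent A : ℕ) := ⟨Monoid.exponent_ne_zero_of_finite⟩
  exact CommGroup.exists_apply_ne_one_of_hasEnoughRootsOfUnity A ℂ ha

theorem sum_dual_eq_zero (hcomm : ∀ a b : A, a * b = b * a) [Fintype (A →* ℂˣ)] {a : A}
    (ha : a ≠ 1) : ∑ f : A →* ℂˣ, (f a : ℂ) = 0 := by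
  obtain ⟨g, hg⟩ := exists_hom_ne_one hcomm ha
  have h : (g a : ℂ) * ∑ f : A →* ℂˣ, (f a : ℂ) = ∑ f : A →* ℂˣ, (f a : ℂ) := by
    rw [Finset.mul_sum]
    refine Fintype.sum_equiv (Equiv.mulLeft g) _ _ fun f => ?_
    simp
  have hb' : (g a : ℂ) - 1 ≠ 0 := sub_ne_zero.2 fun h => hg (Units.ext h)
  have : ((g a : ℂ) - 1) * ∑ f : A →* ℂˣ, (f a : ℂ) = 0 := by rw [sub_mul, h, one_mul, sub_self]
  exact (mul_eq_zero.1 this).resolve_left hb'

theorem card_dual (hcomm : ∀ a b : A, a * b = b * a) :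
    Nat.card (A →* ℂˣ) = Nat.card A := by
  rw [H12.card_monoidHom_units]
  have : commutator A = ⊥ := by
    rw [commutator_eq_bot_iff]
    exact ⟨⟨hcomm⟩⟩
  rw [this, Subgroup.index_bot]

/-- Fourier inversion away from `1`. -/
theorem fourier (hcomm : ∀ a b : A, a * b = b * a) [Fintype (A →* ℂˣ)] (F : A → ℂ)
    (k : (A →* ℂˣ) → ℂ)
    (h : ∀ f : A →* ℂˣ, (Nat.card A : ℂ)⁻¹ * ∑ a : A, (1 - (f a : ℂ)) * F a = k f)
    {a0 : A} (ha : a0 ≠ 1) : F a0 = -∑ f : A →* ℂˣ, k f * (f a0⁻¹ : ℂ) := by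
  classical
  have hne : (Nat.card A : ℂ) ≠ 0 := Nat.cast_ne_zero.2 Nat.card_pos.ne'
  have h1 : ∀ a, ∑ f : A →* ℂˣ, (1 - (f a : ℂ)) * (f a0⁻¹ : ℂ) =
      if a = a0 then -(Nat.card A : ℂ) else 0 := by
    intro a
    simp only [sub_mul, one_mul, Finset.sum_sub_distrib]
    rw [sum_dual_eq_zero hcomm (inv_ne_one.2 ha)]
    simp_rw [← Units.val_mul, ← map_mul]
    split_ifs with e
    · subst e
      simp only [mul_inv_cancel, map_one, Units.val_one, Finset.sum_const, Finset.card_univ,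
        nsmul_eq_mul, mul_one, zero_sub, neg_inj]
      rw [← Nat.card_eq_fintype_card, card_dual hcomm]
    · rw [sum_dual_eq_zero hcomm (fun e' => e (mul_inv_eq_one.1 e')), sub_zero]
  calc F a0 = -((Nat.card A : ℂ)⁻¹ * ∑ a : A, (∑ f : A →* ℂˣ, (1 - (f a : ℂ)) * (f a0⁻¹ : ℂ)) * F a) := by
        simp only [h1, ite_mul, zero_mul, Finset.sum_ite_eq', Finset.mem_univ, if_true]
        field_simp
    _ = -∑ f : A →* ℂˣ, k f * (f a0⁻¹ : ℂ) := by
        congr 1
        simp only [← h, Finset.sum_mul, Finset.mul_sum]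
        rw [Finset.sum_comm]
        exact Finset.sum_congr rfl fun f _ => Finset.sum_congr rfl fun a _ => by ring

end Fourier

section Pairs

variable {κ : Type u} [Fintype κ] [DecidableEq κ]

theorem exists_pair (k : κ → ℤ) (h : ∑ χ, k χ ^ 2 = 2) :
    ∃ a b : κ, a ≠ b ∧ (k a = 1 ∨ k a = -1) ∧ (k b = 1 ∨ k b = -1) ∧
      ∀ c, c ≠ a → c ≠ b → k c = 0 := by
  have hex : ∀ s : Finset κ, 0 < ∑ χ ∈ s, k χ ^ 2 → ∃ a ∈ s, k a ≠ 0 := by
    intro s hs
    by_contra hc
    push Not at hc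
    rw [Finset.sum_eq_zero fun x hx => by rw [hc x hx]; ring] at hs
    exact lt_irrefl _ hs
  have hsq : ∀ z : ℤ, z ≠ 0 → z ^ 2 ≤ 2 → z = 1 ∨ z = -1 := by
    intro z hz hz2
    rcases lt_trichotomy z 0 with h0 | h0 | h0
    · right; nlinarith
    · exact absurd h0 hz
    · left; nlinarith
  obtain ⟨a, -, ha⟩ := hex Finset.univ (by rw [h]; norm_num)
  have hale : k a ^ 2 ≤ 2 := h ▸ Finset.single_le_sum (fun x _ => sq_nonneg (k x)) (Finset.mem_univ a)
  have ha1 := hsq _ ha hale
  have hrest : ∑ χ ∈ Finset.univ.erase a, k χ ^ 2 = 1 := by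
    have := Finset.add_sum_erase Finset.univ (fun χ => k χ ^ 2) (Finset.mem_univ a)
    rw [h] at this
    rcases ha1 with e | e <;> rw [e] at this <;> linarith
  obtain ⟨b, hb, hbne⟩ := hex _ (by rw [hrest]; norm_num)
  have hble : k b ^ 2 ≤ 2 :=
    (Finset.single_le_sum (fun x _ => sq_nonneg (k x)) hb).trans (by rw [hrest]; norm_num)
  have hb1 := hsq _ hbne hble
  refine ⟨a, b, fun e => (Finset.mem_erase.1 hb).1 e.symm, ha1, hb1, fun c hca hcb => ?_⟩
  by_contra hc
  have h2 : k c ^ 2 + k b ^ 2 ≤ 1 := by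
    rw [← hrest, ← Finset.sum_pair (f := fun x => k x ^ 2) hcb]
    refine Finset.sum_le_sum_of_subset_of_nonneg ?_ fun x _ _ => sq_nonneg _
    intro x hx
    simp only [Finset.mem_insert, Finset.mem_singleton] at hx
    rcases hx with rfl | rfl
    · simp [hca]
    · exact hb
  have h3 : 0 < k c ^ 2 := by positivity
  rcases hb1 with e | e <;> rw [e] at h2 <;> linarith

theorem sum_two {M : Type*} [AddCommMonoid M] (F : κ → M) {a b : κ} (hab : a ≠ b)
    (h0 : ∀ c, c ≠ a → c ≠ b → F c = 0) : ∑ c, F c = F a + F b := by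
  rw [← Finset.sum_pair hab]
  refine (Finset.sum_subset (Finset.subset_univ _) fun c _ hc => ?_).symm
  simp only [Finset.mem_insert, Finset.mem_singleton, not_or] at hc
  exact h0 c hc.1 hc.2

/-- Signed pairs meeting pairwise once, all of degree `-1`, have a common member. -/
theorem common_member {ι : Type*} (k : ι → κ → ℤ) (d : κ → ℤ)
    (hsq : ∀ i, ∑ χ, k i χ ^ 2 = 2) (hdeg : ∀ i, ∑ χ, k i χ * d χ = -1)
    (hint : ∀ i j, k i = k j ∨ ∑ χ, k i χ * k j χ = 1)
    (hex : ∃ i j, ∑ χ, k i χ * k j χ = 1) :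
    ∃ (X : κ) (δ : ℤ), (δ = 1 ∨ δ = -1) ∧ ∀ i, ∃ (Θ : κ) (e : ℤ), Θ ≠ X ∧ (e = 1 ∨ e = -1) ∧
      k i X = δ ∧ k i Θ = e ∧ ∀ c, c ≠ X → c ≠ Θ → k i c = 0 := by
  have common : ∀ i j, ∑ χ, k i χ * k j χ = 1 → ∃ a, k i a ≠ 0 ∧ k j a = k i a ∧
      ∀ c, c ≠ a → k i c = 0 ∨ k j c = 0 := by
    intro i j hij
    obtain ⟨a, b, hab, ha, hb, h0⟩ := exists_pair (k i) (hsq i)
    obtain ⟨a', b', -, ha', hb', h0'⟩ := exists_pair (k j) (hsq j)
    have hval : ∀ c, k j c = 0 ∨ k j c = 1 ∨ k j c = -1 := by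
      intro c
      by_cases e : c = a'
      · subst e; tauto
      by_cases e2 : c = b'
      · subst e2; tauto
      exact Or.inl (h0' c e e2)
    rw [sum_two (fun χ => k i χ * k j χ) hab fun c h1 h2 => by rw [h0 c h1 h2, zero_mul]] at hij
    have key : (k j a = k i a ∧ k j b = 0) ∨ (k j b = k i b ∧ k j a = 0) := by
      rcases ha with e1 | e1 <;> rcases hb with e2 | e2 <;> rcases hval a with e3 | e3 | e3 <;>
        rcases hval b with e4 | e4 | e4 <;> simp [e1, e2, e3, e4] at hij ⊢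
    rcases key with ⟨h1, h2⟩ | ⟨h1, h2⟩
    · refine ⟨a, by rcases ha with e | e <;> omega, h1, fun c hc => ?_⟩
      by_cases e : c = b
      · subst e; exact Or.inr h2
      · exact Or.inl (h0 c hc e)
    · refine ⟨b, by rcases hb with e | e <;> omega, h1, fun c hc => ?_⟩
      by_cases e : c = a
      · subst e; exact Or.inr h2
      · exact Or.inl (h0 c e hc)
  obtain ⟨i0, j0, h00⟩ := hex
  obtain ⟨X, hX, hX', hX0⟩ := common i0 j0 h00
  obtain ⟨a, b, hab, ha, hb, h0⟩ := exists_pair (k i0) (hsq i0)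
  have hXab : X = a ∨ X = b := by
    by_contra hc
    push Not at hc
    exact hX (h0 X hc.1 hc.2)
  refine ⟨X, k i0 X, by rcases hXab with rfl | rfl <;> assumption, fun i => ?_⟩
  have hiX : k i X = k i0 X := by
    rcases hint i i0 with e | e
    · rw [e]
    rcases hint i j0 with e' | e'
    · rw [e', hX']
    obtain ⟨A, hA, hA', hA0⟩ := common i i0 e
    obtain ⟨B, hB, hB', hB0⟩ := common i j0 e'
    by_cases hAX : A = X
    · rw [← hAX, hA']
    exfalso
    have hjA : k j0 A = 0 := (hX0 A hAX).resolve_left (by rw [hA']; exact hA)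
    have hBA : B ≠ A := fun e0 => hB (by rw [← hB', e0, hjA])
    have hBX : B ≠ X := by
      intro e0
      have h2 : k i0 B = 0 := (hA0 B hBA).resolve_left hB
      rw [e0] at h2
      exact hX h2
    have hj0A : k i0 B = 0 := (hA0 B hBA).resolve_left hB
    have hiX0 : k i X = 0 := (hA0 X (Ne.symm hAX)).resolve_right hX
    have s1 : k i A * d A + k i B * d B = -1 := by
      rw [← hdeg i, sum_two (fun χ => k i χ * d χ) (Ne.symm hBA)]
      intro c h1 h2
      obtain ⟨p, q, hpq, hp, hq, hpq0⟩ := exists_pair (k i) (hsq i)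
      have hA1 : A = p ∨ A = q := by
        by_contra hc; push Not at hc; exact hA (hpq0 A hc.1 hc.2)
      have hB1 : B = p ∨ B = q := by
        by_contra hc; push Not at hc; exact hB (hpq0 B hc.1 hc.2)
      rw [hpq0 c (fun e => by rcases hA1 with r | r <;> rcases hB1 with r' | r' <;> simp_all)
        (fun e => by rcases hA1 with r | r <;> rcases hB1 with r' | r' <;> simp_all), zero_mul]
    have s2 : k i0 X * d X + k i A * d A = -1 := by
      rw [← hdeg i0, sum_two (fun χ => k i0 χ * d χ) (Ne.symm hAX)]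
      · rw [hA']
      intro c h1 h2
      have hA1 : A = a ∨ A = b := by
        by_contra hc; push Not at hc; exact hA (hA'.symm.trans (h0 A hc.1 hc.2))
      rw [h0 c (fun e => by rcases hA1 with r | r <;> rcases hXab with r' | r' <;> simp_all)
        (fun e => by rcases hA1 with r | r <;> rcases hXab with r' | r' <;> simp_all), zero_mul]
    have s3 : k i0 X * d X + k i B * d B = -1 := by
      rw [← hdeg j0, sum_two (fun χ => k j0 χ * d χ) (Ne.symm hBX)]
      · rw [hB', hX']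
      intro c h1 h2
      obtain ⟨p, q, hpq, hp, hq, hpq0⟩ := exists_pair (k j0) (hsq j0)
      have hX1 : X = p ∨ X = q := by
        by_contra hc; push Not at hc; exact hX (hX'.symm.trans (hpq0 X hc.1 hc.2))
      have hB1 : B = p ∨ B = q := by
        by_contra hc; push Not at hc; exact hB (hB'.symm.trans (hpq0 B hc.1 hc.2))
      rw [hpq0 c (fun e => by rcases hX1 with r | r <;> rcases hB1 with r' | r' <;> simp_all)
        (fun e => by rcases hX1 with r | r <;> rcases hB1 with r' | r' <;> simp_all), zero_mul]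
    omega
  obtain ⟨p, q, hpq, hp, hq, hpq0⟩ := exists_pair (k i) (hsq i)
  have hXne : k i X ≠ 0 := by rw [hiX]; exact hX
  have hX1 : X = p ∨ X = q := by
    by_contra hc; push Not at hc; exact hXne (hpq0 X hc.1 hc.2)
  rcases hX1 with rfl | rfl
  · exact ⟨q, k i q, hpq.symm, hq, hiX, rfl, hpq0⟩
  · exact ⟨p, k i p, hpq, hp, hiX, rfl, fun c h1 h2 => hpq0 c h2 h1⟩

end Pairs

end H72.TwoPrime
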