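import Cfsg.Agent.H72.TwoPrime.ExcBasic
import Cfsg.Agent.H12.Induction

/-!
The induction isometry from `C(R) = R × E` when the automiser of `R` has order two.
-/

set_option autoImplicit false
set_option linter.unusedSectionVars false
set_option linter.style.haveILetI false

open Cfsg Module
open scoped ComplexConjugate

namespace H72.TwoPrime

universe u

variable {G : Type u} [Group G] [Finite G] {r : ℕ} {R : Sylow r G} {E : Subgroup G}

theorem OddData.le_cent (d : OddData G r R E) :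
    (R : Subgroup G) ≤ Subgroup.centralizer ((R : Subgroup G) : Set G) :=
  le_sup_left.trans_eq d.cent_eq

theorem OddData.E_le_cent (d : OddData G r R E) :
    E ≤ Subgroup.centralizer ((R : Subgroup G) : Set G) :=
  le_sup_right.trans_eq d.cent_eq

theorem OddData.commute (d : OddData G r R E) {u y : G} (hu : u ∈ (R : Subgroup G)) (hy : y ∈ E) :
    u * y = y * u :=
  (Subgroup.mem_centralizer_iff.1 (d.E_le_cent hy)) u hu

theorem OddData.cop (d : OddData G r R E) :
    (Nat.card (R : Subgroup G)).Coprime (Nat.card E) := by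
  haveI : Fact r.Prime := ⟨d.prime⟩
  haveI : Fact (Nat.Prime 2) := ⟨Nat.prime_two⟩
  exact IsPGroup.coprime_card_of_ne r 2 d.ne_two _ _ R.2 d.two

theorem OddData.inf_eq (d : OddData G r R E) : (R : Subgroup G) ⊓ E = ⊥ :=
  disjoint_iff.1 (Subgroup.disjoint_of_coprime_natCard d.cop)

/-- `(u, y) ↦ u * y`. -/
noncomputable def OddData.mulHom (d : OddData G r R E) :
    ↥(R : Subgroup G) × E →* Subgroup.centralizer ((R : Subgroup G) : Set G) where
  toFun x := ⟨x.1 * x.2, mul_mem (d.le_cent x.1.2) (d.E_le_cent x.2.2)⟩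
  map_one' := by apply Subtype.ext; simp
  map_mul' x y := by
    apply Subtype.ext
    show ((x.1 : G) * y.1) * ((x.2 : G) * y.2) = x.1 * x.2 * (y.1 * y.2)
    have h := d.commute y.1.2 x.2.2
    simp only [mul_assoc]
    rw [← mul_assoc (y.1 : G), h, mul_assoc]

theorem OddData.mulHom_bijective (d : OddData G r R E) : Function.Bijective d.mulHom := by
  constructor
  · rw [injective_iff_map_eq_one]
    intro x hx
    have h : (x.1 : G) * x.2 = 1 := congrArg Subtype.val hx
    have hu : (x.1 : G) ∈ (R : Subgroup G) ⊓ E := by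
      refine ⟨x.1.2, ?_⟩
      show (x.1 : G) ∈ E
      rw [eq_inv_of_mul_eq_one_left h]
      exact inv_mem x.2.2
    rw [d.inf_eq, Subgroup.mem_bot] at hu
    rw [hu, one_mul] at h
    exact Prod.ext (Subtype.ext hu) (Subtype.ext h)
  · intro h
    have hh : (h : G) ∈ (R : Subgroup G) ⊔ E := d.cent_eq.symm.le h.2
    have hle : E ≤ Subgroup.normalizer ((R : Subgroup G) : Set G) :=
      d.E_le_cent.trans (Subgroup.centralizer_le_normalizer _)
    rw [← SetLike.mem_coe, Subgroup.coe_mul_of_right_le_normalizer_left _ _ hle] at hh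
    obtain ⟨u, hu, y, hy, he⟩ := Set.mem_mul.1 hh
    exact ⟨(⟨u, hu⟩, ⟨y, hy⟩), Subtype.ext he⟩

/-- `C(R) ≅ R × E`. -/
noncomputable def OddData.equiv (d : OddData G r R E) :
    ↥(R : Subgroup G) × E ≃* Subgroup.centralizer ((R : Subgroup G) : Set G) :=
  MulEquiv.ofBijective d.mulHom d.mulHom_bijective

theorem OddData.equiv_coe (d : OddData G r R E) (x : ↥(R : Subgroup G) × E) :
    (d.equiv x : G) = x.1 * x.2 := rfl

theorem OddData.eq_of_mul_eq (d : OddData G r R E) {u u' y y' : G} (hu : u ∈ (R : Subgroup G))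
    (hu' : u' ∈ (R : Subgroup G)) (hy : y ∈ E) (hy' : y' ∈ E) (h : u * y = u' * y') :
    u = u' ∧ y = y' := by
  have := d.equiv.injective (a₁ := (⟨u, hu⟩, ⟨y, hy⟩)) (a₂ := (⟨u', hu'⟩, ⟨y', hy'⟩))
    (Subtype.ext h)
  exact ⟨congrArg (fun x => ((x.1 : (R : Subgroup G)) : G)) this,
    congrArg (fun x => ((x.2 : E) : G)) this⟩

theorem OddData.exists_mul (d : OddData G r R E) {h : G}
    (hh : h ∈ Subgroup.centralizer ((R : Subgroup G) : Set G)) :
    ∃ u ∈ (R : Subgroup G), ∃ y ∈ E, u * y = h := by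
  obtain ⟨x, hx⟩ := d.equiv.surjective ⟨h, hh⟩
  exact ⟨x.1, x.1.2, x.2, x.2.2, congrArg Subtype.val hx⟩

/-- An `r`-element of `C(R)` lies in `R`. -/
theorem OddData.mem_R (d : OddData G r R E) {h : G}
    (hh : h ∈ Subgroup.centralizer ((R : Subgroup G) : Set G)) {k : ℕ} (hk : h ^ r ^ k = 1) :
    h ∈ (R : Subgroup G) := by
  obtain ⟨u, hu, y, hy, rfl⟩ := d.exists_mul hh
  haveI : Fact r.Prime := ⟨d.prime⟩
  haveI : Fact (Nat.Prime 2) := ⟨Nat.prime_two⟩
  rw [(show Commute u y from d.commute hu hy).mul_pow] at hk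
  have hy1 : y ^ r ^ k = 1 :=
    (d.eq_of_mul_eq (pow_mem hu _) (one_mem _) (pow_mem hy _) (one_mem _)
      (by rw [hk, one_mul])).2
  have hy2 : y = 1 := by
    obtain ⟨j, hj⟩ := d.two ⟨y, hy⟩
    have hj' : y ^ 2 ^ j = 1 := congrArg Subtype.val hj
    have hg := pow_gcd_eq_one.2 ⟨hy1, hj'⟩
    rw [((Nat.coprime_primes d.prime Nat.prime_two).2 d.ne_two).pow k j, pow_one] at hg
    exact hg
  rwa [hy2, mul_one]

/-- Conjugating an element of `R# E` into `C(R)` normalises `R`. -/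
theorem OddData.conj_mem_normalizer (d : OddData G r R E) {u y g : G} (hu : u ∈ (R : Subgroup G))
    (hu1 : u ≠ 1) (hy : y ∈ E)
    (hg : g * (u * y) * g⁻¹ ∈ Subgroup.centralizer ((R : Subgroup G) : Set G)) :
    g ∈ Subgroup.normalizer ((R : Subgroup G) : Set G) := by
  haveI : Fact r.Prime := ⟨d.prime⟩
  haveI : Fact (Nat.Prime 2) := ⟨Nat.prime_two⟩
  obtain ⟨k, hk⟩ := R.2 ⟨u, hu⟩
  have hk' : u ^ r ^ k = 1 := congrArg Subtype.val hk
  obtain ⟨j, hj⟩ := d.two ⟨y, hy⟩
  have hj' : y ^ 2 ^ j = 1 := congrArg Subtype.val hj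
  have hc : Commute u y := d.commute hu hy
  obtain ⟨m, hm1, hm0⟩ : ∃ m : ℕ, u ^ m = u ∧ y ^ m = 1 := by
    obtain ⟨m, hm⟩ := Nat.chineseRemainder
      (((Nat.coprime_primes d.prime Nat.prime_two).2 d.ne_two).pow k j) 1 0
    refine ⟨m, ?_, ?_⟩
    · have := hm.1
      nth_rw 2 [← pow_one u]
      exact pow_eq_pow_of_modEq this hk'
    · rw [← pow_zero y]
      exact pow_eq_pow_of_modEq hm.2 hj'
  have hum : (g * (u * y) * g⁻¹) ^ m = g * u * g⁻¹ := by
    rw [conj_pow, hc.mul_pow, hm1, hm0, mul_one]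
  have hmem : g * u * g⁻¹ ∈ Subgroup.centralizer ((R : Subgroup G) : Set G) := hum ▸ pow_mem hg m
  have hR : g * u * g⁻¹ ∈ (R : Subgroup G) :=
    d.mem_R hmem (k := k) (by rw [conj_pow, hk', mul_one, mul_inv_cancel])
  have hne : g * u * g⁻¹ ≠ 1 := fun e => hu1 (conj_eq_one_iff.1 e)
  have hiff : ∀ x, x ∈ Subgroup.centralizer ((R : Subgroup G) : Set G) ↔
      g * x * g⁻¹ ∈ Subgroup.centralizer ((R : Subgroup G) : Set G) := fun x => by
    conv_rhs => rw [← d.cent_elem _ hR hne, Subgroup.mem_centralizer_singleton_iff]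
    conv_lhs => rw [← d.cent_elem u hu hu1, Subgroup.mem_centralizer_singleton_iff]
    constructor
    · intro h
      calc g * x * g⁻¹ * (g * u * g⁻¹) = g * (x * u) * g⁻¹ := by group
        _ = g * (u * x) * g⁻¹ := by rw [h]
        _ = g * u * g⁻¹ * (g * x * g⁻¹) := by group
    · intro h
      have : g * (x * u) * g⁻¹ = g * (u * x) * g⁻¹ := by
        calc g * (x * u) * g⁻¹ = g * x * g⁻¹ * (g * u * g⁻¹) := by group
          _ = g * u * g⁻¹ * (g * x * g⁻¹) := h
          _ = g * (u * x) * g⁻¹ := by group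
      exact mul_left_cancel (mul_right_cancel this)
  refine Subgroup.mem_normalizer_iff.2 fun x => ⟨fun hx => ?_, fun hx => ?_⟩
  · obtain ⟨a, ha⟩ := R.2 ⟨x, hx⟩
    refine d.mem_R ((hiff x).1 (d.le_cent hx)) (k := a) ?_
    rw [conj_pow, show x ^ r ^ a = 1 from congrArg Subtype.val ha, mul_one, mul_inv_cancel]
  · obtain ⟨a, ha⟩ := R.2 ⟨g * x * g⁻¹, hx⟩
    refine d.mem_R ((hiff x).2 (d.le_cent hx)) (k := a) ?_
    have ha' : (g * x * g⁻¹) ^ r ^ a = 1 := congrArg Subtype.val ha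
    rw [conj_pow] at ha'
    exact conj_eq_one_iff.1 ha'

/-- An element of `N(R)` outside `C(R)` inverts `R`, when the automiser has order two. -/
theorem OddData.exists_inverter (d : OddData G r R E) (he : autOrder (R : Subgroup G) = 2) :
    ∃ i ∈ Subgroup.normalizer ((R : Subgroup G) : Set G),
      i ∉ Subgroup.centralizer ((R : Subgroup G) : Set G) ∧
      (∀ u ∈ (R : Subgroup G), i * u * i⁻¹ = u⁻¹) ∧
      ∀ x ∈ Subgroup.normalizer ((R : Subgroup G) : Set G),
        x ∈ Subgroup.centralizer ((R : Subgroup G) : Set G) ∨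
          i⁻¹ * x ∈ Subgroup.centralizer ((R : Subgroup G) : Set G) := by
  set N := Subgroup.normalizer ((R : Subgroup G) : Set G) with hN
  set C := Subgroup.centralizer ((R : Subgroup G) : Set G) with hC
  have h2 : (C.subgroupOf N).index = 2 := he
  have hmul : ∀ a b : N, a * b ∈ C.subgroupOf N ↔ (a ∈ C.subgroupOf N ↔ b ∈ C.subgroupOf N) :=
    fun a b => Subgroup.mul_mem_iff_of_index_two h2
  have hnot : ¬ N ≤ C := fun hle => by
    rw [Subgroup.subgroupOf_eq_top.2 hle, Subgroup.index_top] at h2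
    norm_num at h2
  obtain ⟨i, hiN, hiC⟩ := SetLike.not_le_iff_exists.1 hnot
  have hsplit : ∀ x ∈ N, x ∈ C ∨ i⁻¹ * x ∈ C := by
    intro x hx
    by_cases hxC : x ∈ C
    · exact Or.inl hxC
    right
    have h := (hmul (⟨i, hiN⟩⁻¹) ⟨x, hx⟩).2
    simp only [Subgroup.mem_subgroupOf, Subgroup.coe_inv, Subgroup.coe_mul, inv_mem_iff] at h
    exact h ⟨fun h' => absurd h' hiC, fun h' => absurd h' hxC⟩
  have hi2 : i * i ∈ C := by
    have h := (hmul ⟨i, hiN⟩ ⟨i, hiN⟩).2 Iff.rfl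
    simpa [Subgroup.mem_subgroupOf] using h
  refine ⟨i, hiN, hiC, fun u hu => ?_, hsplit⟩
  have hc : ∀ a ∈ (R : Subgroup G), ∀ b ∈ (R : Subgroup G), a * b = b * a := fun a ha b hb => by
    haveI := d.comm
    exact congrArg Subtype.val (mul_comm' (⟨a, ha⟩ : (R : Subgroup G)) ⟨b, hb⟩)
  have hiu : i * u * i⁻¹ ∈ (R : Subgroup G) := (Subgroup.mem_normalizer_iff.1 hiN u).1 hu
  by_contra hne
  have hv : u * (i * u * i⁻¹) ∈ (R : Subgroup G) := mul_mem hu hiu
  have hv1 : u * (i * u * i⁻¹) ≠ 1 := fun e => hne (eq_inv_of_mul_eq_one_right e)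
  have hfix : i * (i * u * i⁻¹) * i⁻¹ = u := by
    have h := (Subgroup.mem_centralizer_iff.1 hi2) u hu
    calc i * (i * u * i⁻¹) * i⁻¹ = i * i * u * (i * i)⁻¹ := by group
      _ = u := by rw [← h, mul_inv_cancel_right]
  have hic : i ∈ Subgroup.centralizer ({u * (i * u * i⁻¹)} : Set G) := by
    rw [Subgroup.mem_centralizer_singleton_iff]
    have e : i * (u * (i * u * i⁻¹)) * i⁻¹ = u * (i * u * i⁻¹) := by
      calc i * (u * (i * u * i⁻¹)) * i⁻¹ = (i * u * i⁻¹) * (i * (i * u * i⁻¹) * i⁻¹) := by group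
        _ = u * (i * u * i⁻¹) := by rw [hfix]; exact hc _ hiu _ hu
    exact mul_inv_eq_iff_eq_mul.1 e
  rw [d.cent_elem _ hv hv1] at hic
  exact hiC hic

section Isometry

variable [Fintype G]

/-- The function `(1 - f(u)) * ψ(y)` on `C(R)`. -/
noncomputable def OddData.phi (d : OddData G r R E) (f : (R : Subgroup G) →* ℂˣ) (ψ : E → ℂ) :
    Subgroup.centralizer ((R : Subgroup G) : Set G) → ℂ :=
  fun h => (1 - (f (d.equiv.symm h).1 : ℂ)) * ψ (d.equiv.symm h).2

theorem OddData.phi_apply (d : OddData G r R E) (f : (R : Subgroup G) →* ℂˣ) (ψ : E → ℂ)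
    (x : ↥(R : Subgroup G) × E) : d.phi f ψ (d.equiv x) = (1 - (f x.1 : ℂ)) * ψ x.2 := by
  simp [OddData.phi]

theorem OddData.isGeneralized_phi (d : OddData G r R E) (f : (R : Subgroup G) →* ℂˣ) {ψ : E → ℂ}
    (hψ : IsCharacter E ψ) : IsGeneralizedCharacter _ (d.phi f ψ) := by
  have h1 := H12.IsCharacter.comp
    (H12.IsCharacter.extProd (H12.isCharacter_one (G := (R : Subgroup G))) hψ)
    d.equiv.symm.toMonoidHom
  have h2 := H12.IsCharacter.comp
    (H12.IsCharacter.extProd (H12.isCharacter_irr (H12.linIrr f)) hψ) d.equiv.symm.toMonoidHom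
  refine ⟨_, _, h1, h2, funext fun h => ?_⟩
  simp [OddData.phi, sub_mul, H12.linIrr_apply]

theorem OddData.classInner_phi (d : OddData G r R E) [Fintype (R : Subgroup G)] [Fintype E]
    [Fintype (Subgroup.centralizer ((R : Subgroup G) : Set G))]
    (f : (R : Subgroup G) →* ℂˣ) (ψ : E → ℂ) (χ : G → ℂ) :
    classInner (d.phi f ψ) (fun h => χ h) =
      (Nat.card (R : Subgroup G) : ℂ)⁻¹ * ∑ u : (R : Subgroup G), (1 - (f u : ℂ)) *
        classInner ψ (fun y : E => χ (u * y)) := by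
  rw [← H12.classInner_comp_equiv d.equiv, H12.classInner_def, Fintype.sum_prod_type, Nat.card_prod,
    Nat.cast_mul, mul_inv, mul_assoc, Finset.mul_sum]
  congr 1
  refine Finset.sum_congr rfl fun u _ => ?_
  simp only [H12.classInner_def, Finset.mul_sum, Function.comp_apply, d.phi_apply, d.equiv_coe]
  exact Finset.sum_congr rfl fun y _ => by ring

variable (d : OddData G r R E) {i : G}
  (hiN : i ∈ Subgroup.normalizer ((R : Subgroup G) : Set G))
  (hinv : ∀ u ∈ (R : Subgroup G), i * u * i⁻¹ = u⁻¹)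
  (hsplit : ∀ x ∈ Subgroup.normalizer ((R : Subgroup G) : Set G),
    x ∈ Subgroup.centralizer ((R : Subgroup G) : Set G) ∨
      i⁻¹ * x ∈ Subgroup.centralizer ((R : Subgroup G) : Set G))

include d hiN in
theorem OddData.conj_E {y : G} (hy : y ∈ E) : i⁻¹ * y * i ∈ E := by
  haveI : Fact (Nat.Prime 2) := ⟨Nat.prime_two⟩
  haveI : Fact r.Prime := ⟨d.prime⟩
  have hC : i⁻¹ * y * i ∈ Subgroup.centralizer ((R : Subgroup G) : Set G) := by
    rw [Subgroup.mem_centralizer_iff]
    intro x hx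
    have hx' : i * x * i⁻¹ ∈ (R : Subgroup G) := (Subgroup.mem_normalizer_iff.1 hiN x).1 hx
    have h := d.commute hx' hy
    calc x * (i⁻¹ * y * i) = i⁻¹ * ((i * x * i⁻¹) * y) * i := by group
      _ = i⁻¹ * (y * (i * x * i⁻¹)) * i := by rw [h]
      _ = i⁻¹ * y * i * x := by group
  obtain ⟨u, hu, w, hw, e⟩ := d.exists_mul hC
  obtain ⟨j, hj⟩ := d.two ⟨y, hy⟩
  have hj' : y ^ 2 ^ j = 1 := congrArg Subtype.val hj
  have hp : (i⁻¹ * y * i) ^ 2 ^ j = 1 := by
    have := conj_pow (a := i⁻¹) (b := y) (i := 2 ^ j)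
    rw [inv_inv, hj', mul_one, inv_mul_cancel] at this
    exact this
  rw [← e, (show Commute u w from d.commute hu hw).mul_pow] at hp
  have hu1 : u ^ 2 ^ j = 1 :=
    (d.eq_of_mul_eq (pow_mem hu _) (one_mem _) (pow_mem hw _) (one_mem _)
      (by rw [hp, one_mul])).1
  obtain ⟨k, hk⟩ := R.2 ⟨u, hu⟩
  have hg := pow_gcd_eq_one.2 ⟨hu1, (show u ^ r ^ k = 1 from congrArg Subtype.val hk)⟩
  rw [((Nat.coprime_primes Nat.prime_two d.prime).2 d.ne_two.symm).pow j k, pow_one] at hg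
  rw [← e, hg, one_mul]
  exact hw

/-- Conjugation by the inverter on `E`. -/
noncomputable def OddData.sigma : E ≃* E :=
  MulEquiv.ofBijective
    (({ toFun := fun y => ⟨i⁻¹ * y * i, d.conj_E hiN y.2⟩
        map_one' := by apply Subtype.ext; simp
        map_mul' := fun a b => by apply Subtype.ext; simp [mul_assoc] } : E →* E))
    (Finite.injective_iff_bijective.1 fun a b h => Subtype.ext (by
      have h' : i⁻¹ * (a : G) * i = i⁻¹ * b * i := congrArg Subtype.val h
      exact mul_left_cancel (mul_right_cancel h')))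

theorem OddData.sigma_coe (y : E) : (d.sigma hiN y : G) = i⁻¹ * y * i := rfl

include hiN hinv hsplit in
theorem OddData.indFun_phi (hic : i ∉ Subgroup.centralizer ((R : Subgroup G) : Set G))
    (f : (R : Subgroup G) →* ℂˣ) (ψ : E → ℂ) (hψ : IsClassFunction E ψ)
    (u : (R : Subgroup G)) (hu : u ≠ 1) (y : E) :
    indFun _ (d.phi f ψ) ((u : G) * y) =
      (1 - (f u : ℂ)) * ψ y + (1 - (f u⁻¹ : ℂ)) * ψ (d.sigma hiN y) := by
  classical
  set C := Subgroup.centralizer ((R : Subgroup G) : Set G) with hC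
  haveI : Fintype C := Fintype.ofFinite _
  have hu1 : (u : G) ≠ 1 := fun e => hu (Subtype.ext e)
  have hφ : ∀ a b : C, d.phi f ψ (b * a * b⁻¹) = d.phi f ψ a := by
    intro a b
    obtain ⟨x, rfl⟩ := d.equiv.surjective a
    obtain ⟨w, rfl⟩ := d.equiv.surjective b
    rw [← map_mul, ← map_inv, ← map_mul, d.phi_apply, d.phi_apply]
    show (1 - (f (w.1 * x.1 * w.1⁻¹) : ℂ)) * ψ (w.2 * x.2 * w.2⁻¹) = _
    rw [hψ x.2 w.2]
    haveI := d.comm
    rw [mul_comm' w.1, mul_inv_cancel_right]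
  have hz : d.equiv (u, y) = (⟨(u : G) * y, (d.equiv (u, y)).2⟩ : C) := rfl
  have hiy : i⁻¹ * ((u : G) * y) * i = ((u⁻¹ : (R : Subgroup G)) : G) * (d.sigma hiN y : G) := by
    rw [d.sigma_coe, Subgroup.coe_inv]
    have h := hinv _ (inv_mem u.2)
    rw [inv_inv] at h
    calc i⁻¹ * ((u : G) * y) * i = i⁻¹ * (u : G) * i * (i⁻¹ * y * i) := by group
      _ = _ := by
        congr 1
        conv_lhs => rw [← h]
        group
  have hval : ∀ x : G, extendByZero C (d.phi f ψ) (x⁻¹ * ((u : G) * y) * x) =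
      (if x ∈ C then (1 - (f u : ℂ)) * ψ y else 0) +
      (if i⁻¹ * x ∈ C then (1 - (f u⁻¹ : ℂ)) * ψ (d.sigma hiN y) else 0) := by
    intro x
    by_cases hx : x ∈ C
    · have hx2 : i⁻¹ * x ∉ C := fun h => hic (by
        have := mul_mem hx (inv_mem h)
        simpa using this)
      have e : x⁻¹ * ((u : G) * y) * x =
          ((⟨x, hx⟩⁻¹ * d.equiv (u, y) * ⟨x, hx⟩⁻¹⁻¹ : C) : G) := by
        simp [d.equiv_coe]
      rw [if_pos hx, if_neg hx2, add_zero, e, H12.extendByZero_coe, hφ, d.phi_apply]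
    · by_cases hx2 : i⁻¹ * x ∈ C
      · have e : x⁻¹ * ((u : G) * y) * x =
            ((⟨i⁻¹ * x, hx2⟩⁻¹ * d.equiv (u⁻¹, d.sigma hiN y) * ⟨i⁻¹ * x, hx2⟩⁻¹⁻¹ : C) : G) := by
          simp only [Subgroup.coe_mul, Subgroup.coe_inv, inv_inv]
          rw [d.equiv_coe, ← hiy]
          group
        rw [if_neg hx, if_pos hx2, zero_add, e, H12.extendByZero_coe, hφ, d.phi_apply]
      · rw [if_neg hx, if_neg hx2, add_zero]
        refine H12.extendByZero_of_notMem C _ fun hmem => ?_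
        have hN := d.conj_mem_normalizer u.2 hu1 y.2 (g := x⁻¹) (by rwa [inv_inv])
        rcases hsplit x (inv_mem_iff.1 hN) with h | h
        · exact hx h
        · exact hx2 h
  show (Nat.card C : ℂ)⁻¹ * ∑ x : G, extendByZero C (d.phi f ψ) (x⁻¹ * ((u : G) * y) * x) = _
  simp only [hval, Finset.sum_add_distrib, ← Finset.sum_filter, Finset.sum_const, nsmul_eq_mul]
  have c1 : (Finset.univ.filter fun x : G => x ∈ C).card = Nat.card C := by
    rw [Nat.card_eq_fintype_card, ← Fintype.card_subtype]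
  have c2 : (Finset.univ.filter fun x : G => i⁻¹ * x ∈ C).card = Nat.card C := by
    rw [← c1]
    exact Finset.card_bij' (fun x _ => i⁻¹ * x) (fun x _ => i * x) (by simp) (by simp)
      (by simp) (by simp)
  rw [c1, c2, ← mul_add, inv_mul_cancel_left₀ (Nat.cast_ne_zero.2 Nat.card_pos.ne')]

include hiN hinv hsplit in
theorem OddData.classInner_ind (hic : i ∉ Subgroup.centralizer ((R : Subgroup G) : Set G))
    [Fintype (R : Subgroup G)] [Fintype E]
    (f g : (R : Subgroup G) →* ℂˣ) (ψ ψ' : E → ℂ) (hψ' : IsClassFunction E ψ') :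
    classInner (indFun _ (d.phi f ψ)) (indFun _ (d.phi g ψ')) =
      classInner (fun u => 1 - (f u : ℂ)) (fun u => 1 - (g u : ℂ)) * classInner ψ ψ' +
      classInner (fun u => 1 - (f u : ℂ)) (fun u => 1 - ((g⁻¹) u : ℂ)) *
        classInner ψ (fun y => ψ' (d.sigma hiN y)) := by
  classical
  haveI : Fintype (Subgroup.centralizer ((R : Subgroup G) : Set G)) := Fintype.ofFinite _
  rw [H12.classInner_indFun _ _ (H12.indFun_isClassFunction _ _), d.classInner_phi,
    H12.classInner_def (fun u => 1 - (f u : ℂ)) _, H12.classInner_def (fun u => 1 - (f u : ℂ)) _,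
    mul_assoc, mul_assoc, ← mul_add, Finset.sum_mul, Finset.sum_mul, ← Finset.sum_add_distrib]
  congr 1
  refine Finset.sum_congr rfl fun u _ => ?_
  by_cases hu : u = 1
  · subst hu; simp
  have e : (fun y : E => indFun _ (d.phi g ψ') ((u : G) * y)) =
      (1 - (g u : ℂ)) • ψ' + (1 - ((g⁻¹) u : ℂ)) • (fun y => ψ' (d.sigma hiN y)) := by
    funext y
    rw [d.indFun_phi hiN hinv hsplit hic g ψ' hψ' u hu y, map_inv]
    rfl
  rw [e, H12.classInner_add_right, H12.classInner_smul_right, H12.classInner_smul_right]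
  ring

end Isometry

theorem classInner_one_sub {A : Type u} [Group A] [Fintype A] [DecidableEq (A →* ℂˣ)]
    {f g : A →* ℂˣ} (hf : f ≠ 1) (hg : g ≠ 1) :
    classInner (fun a => 1 - (f a : ℂ)) (fun a => 1 - (g a : ℂ)) = if f = g then 2 else 1 := by
  classical
  have h : ∀ h : A →* ℂˣ, (fun a => 1 - (h a : ℂ)) =
      (H12.linIrr (1 : A →* ℂˣ) : A → ℂ) - (H12.linIrr h : A → ℂ) := fun h => funext fun a => by
    simp [H12.linIrr_apply]
  rw [h f, h g, H12.classInner_sub_left, H12.classInner_sub_right, H12.classInner_sub_right]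
  simp only [H12.classInner_irr, H12.linIrr_injective.eq_iff, if_neg hf, if_neg hg.symm, if_true]
  split_ifs <;> norm_num

end H72.TwoPrime
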