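import Cfsg.Agent.H72.TwoPrime.Simple
import Cfsg.Agent.H79.TwoPrime.Defs
import Cfsg.Agent.S0494
import Cfsg.Agent.S1011

/-!
The simple groups whose class sizes have at most two prime divisors.
-/

set_option autoImplicit false

open Cfsg

namespace H72.TwoPrime

universe u

theorem simple_list (S : Type u) [Group S] [Finite S] [IsSimpleGroup S]
    (hna : ¬ IsMulCommutative S) (h : H79.TwoPrime.HS S) :
    Nonempty (S ≃* alternatingGroup (Fin 5)) ∨
      Nonempty (S ≃* Matrix.ProjectiveSpecialLinearGroup (Fin 2) (GaloisField 2 3)) := by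
  haveI : Fact (Nat.Prime 2) := ⟨Nat.prime_two⟩
  rcases simple_case hna h with hc | hc
  · exact Or.inl (Cfsg.Agent.S0494.result hc)
  · haveI : Fintype (GaloisField 2 3) := Fintype.ofFinite _
    refine Or.inr (Cfsg.Agent.S1011.result hc ?_)
    rw [← Nat.card_eq_fintype_card, GaloisField.card 2 3 (by norm_num)]
    norm_num

end H72.TwoPrime
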