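import Cfsg.Agent.H72.TwoPrime.Basic
import Cfsg.Agent.H85.BrauerSuzuki
import Cfsg.Agent.S0143
import Cfsg.Agent.S0144

/-!
Local structure of a simple group whose class sizes have at most two prime divisors.
-/

set_option autoImplicit false
set_option linter.unusedSectionVars false
set_option linter.style.haveILetI false

open scoped Pointwise

namespace H72.TwoPrime

universe u

namespace Loc

variable {G : Type u} [Group G] [Finite G]

/-- centraliser of an element -/
abbrev cz (x : G) : Subgroup G := Subgroup.centralizer ({x} : Set G)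

theorem mem_cz {x g : G} : g ∈ cz x ↔ g * x = x * g := by
  rw [Subgroup.mem_centralizer_singleton_iff]

theorem le_cz {H : Subgroup G} {x : G} (hx : x ∈ Subgroup.centralizer (H : Set G)) : H ≤ cz x :=
  fun y hy => mem_cz.2 (Subgroup.mem_centralizer_iff.1 hx y hy)

theorem mem_centralizer_of_le {H : Subgroup G} {x : G} (h : H ≤ cz x) :
    x ∈ Subgroup.centralizer (H : Set G) :=
  Subgroup.mem_centralizer_iff.2 fun _y hy => mem_cz.1 (h hy)

theorem card_pos' (H : Subgroup G) : 0 < Nat.card H := Nat.card_pos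

/-- A subgroup of index prime to `p` contains a Sylow `p`-subgroup. -/
theorem exists_sylow_le {p : ℕ} [hp : Fact p.Prime] {H : Subgroup G} (h : ¬ p ∣ H.index) :
    ∃ P : Sylow p G, (P : Subgroup G) ≤ H := by
  let S : Sylow p H := default
  have hc : Nat.card ((S : Subgroup H).map H.subtype) = p ^ (Nat.card G).factorization p := by
    rw [Subgroup.card_map_of_injective H.subtype_injective, S.card_eq_multiplicity,
      ← H.card_mul_index, Nat.factorization_mul Nat.card_pos.ne'
        Subgroup.FiniteIndex.index_ne_zero, Finsupp.add_apply,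
      Nat.factorization_eq_zero_of_not_dvd h, add_zero]
  exact ⟨Sylow.ofCard _ hc, by rw [Sylow.coe_ofCard]; exact Subgroup.map_subtype_le _⟩

/-- A `p`-element centralising a Sylow `p`-subgroup lies in it. -/
theorem mem_sylow_of_comm {p : ℕ} {x : G} (hx : IsPGroup p (Subgroup.zpowers x))
    (P : Sylow p G) (hc : x ∈ Subgroup.centralizer ((P : Subgroup G) : Set G)) :
    x ∈ (P : Subgroup G) := by
  have hn : Subgroup.zpowers x ≤ Subgroup.normalizer ((P : Subgroup G) : Set G) :=
    le_trans (Subgroup.zpowers_le.2 hc) (Subgroup.centralizer_le_normalizer _)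
  have hsup : IsPGroup p (Subgroup.zpowers x ⊔ (P : Subgroup G) : Subgroup G) :=
    hx.to_sup_of_normal_right' P.2 hn
  have := P.3 hsup le_sup_right
  exact this ▸ le_sup_left (b := (P : Subgroup G)) (Subgroup.mem_zpowers x)

theorem isPGroup_zpowers_of_orderOf {p k : ℕ} {x : G} (hx : orderOf x = p ^ k) :
    IsPGroup p (Subgroup.zpowers x) := IsPGroup.of_card (n := k) (by rw [Nat.card_zpowers, hx])

theorem isPGroup_zpowers_of_mem {p : ℕ} [Fact p.Prime] {P : Subgroup G} (hP : IsPGroup p P)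
    {x : G} (hx : x ∈ P) : IsPGroup p (Subgroup.zpowers x) :=
  hP.to_le (Subgroup.zpowers_le.2 hx)

theorem mem_smul' {p : ℕ} (P : Sylow p G) (g : G) {y : G} (hy : y ∈ (P : Subgroup G)) :
    g * y * g⁻¹ ∈ ((g • P : Sylow p G) : Subgroup G) := by
  rw [Sylow.smul_def, Sylow.pointwise_smul_def]
  exact Subgroup.smul_mem_pointwise_smul y (MulAut.conj g) _ hy

/-- An element with index prime to `p` is conjugate to one centralising a given Sylow subgroup. -/
theorem exists_conj_cent {p : ℕ} [Fact p.Prime] (P : Sylow p G) {x : G}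
    (h : ¬ p ∣ (cz x).index) :
    ∃ g : G, g⁻¹ * x * g ∈ Subgroup.centralizer ((P : Subgroup G) : Set G) := by
  obtain ⟨P', hP'⟩ := exists_sylow_le h
  obtain ⟨g, hg⟩ := MulAction.exists_smul_eq G P P'
  refine ⟨g, Subgroup.mem_centralizer_iff.2 fun y hy => ?_⟩
  have h1 := mem_cz.1 (hP' (hg ▸ mem_smul' P g hy))
  calc y * (g⁻¹ * x * g) = g⁻¹ * ((g * y * g⁻¹) * x) * g := by group
    _ = g⁻¹ * (x * (g * y * g⁻¹)) * g := by rw [h1]
    _ = g⁻¹ * x * g * y := by group

theorem index_cz_conj (g x : G) : (cz (g * x * g⁻¹)).index = (cz x).index := by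
  have : cz (g * x * g⁻¹) = (cz x).map (MulAut.conj g).toMonoidHom := by
    ext y
    rw [Subgroup.mem_map, mem_cz]
    constructor
    · intro hy
      refine ⟨g⁻¹ * y * g, mem_cz.2 ?_, by simp [mul_assoc]⟩
      calc g⁻¹ * y * g * x = g⁻¹ * (y * (g * x * g⁻¹)) * g := by group
        _ = g⁻¹ * (g * x * g⁻¹ * y) * g := by rw [hy]
        _ = x * (g⁻¹ * y * g) := by group
    · rintro ⟨w, hw, rfl⟩
      have hw' := mem_cz.1 hw
      simp only [MulEquiv.coe_toMonoidHom, MulAut.conj_apply]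
      calc g * w * g⁻¹ * (g * x * g⁻¹) = g * (w * x) * g⁻¹ := by group
        _ = g * (x * w) * g⁻¹ := by rw [hw']
        _ = g * x * g⁻¹ * (g * w * g⁻¹) := by group
  rw [this]
  exact Subgroup.index_map_of_bijective (MulAut.conj g).bijective _

/-- In a group with a commutative Sylow subgroup all Sylow subgroups are commutative. -/
theorem comm_of_comm {p : ℕ} [Fact p.Prime] (P : Sylow p G) (h : IsMulCommutative (P : Subgroup G))
    (P' : Sylow p G) : IsMulCommutative (P' : Subgroup G) := by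
  obtain ⟨g, rfl⟩ := MulAction.exists_smul_eq G P P'
  refine ⟨⟨fun a b => ?_⟩⟩
  obtain ⟨a', ha'⟩ := (P.equivSMul g).surjective a
  obtain ⟨b', hb'⟩ := (P.equivSMul g).surjective b
  rw [← ha', ← hb', ← map_mul, ← map_mul, h.is_comm.comm]

theorem not_dvd_index_of_mem {p : ℕ} [Fact p.Prime] (P : Sylow p G)
    (h : IsMulCommutative (P : Subgroup G)) {x : G} (hx : IsPGroup p (Subgroup.zpowers x)) :
    ¬ p ∣ (cz x).index := by
  obtain ⟨P', hP'⟩ := hx.exists_le_sylow
  have hc : (P' : Subgroup G) ≤ cz x := fun y hy => mem_cz.2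
    (congrArg Subtype.val ((comm_of_comm P h P').is_comm.comm
      ⟨y, hy⟩ ⟨x, hP' (Subgroup.mem_zpowers x)⟩))
  exact fun hd => P'.not_dvd_index (hd.trans (Subgroup.index_dvd_of_le hc))

theorem cz_mul_le {a b : G} (hab : Commute a b) (hco : (orderOf a).Coprime (orderOf b)) :
    cz (a * b) ≤ cz a ⊓ cz b := by
  have aux : ∀ c d : G, Commute c d → (orderOf c).Coprime (orderOf d) → cz (c * d) ≤ cz c := by
    intro c d hcd hc g hg
    obtain ⟨m, hm⟩ := exists_pow_eq_self_of_coprime (x := c) (n := orderOf d) hc.symm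
    have h1 : Commute g ((c * d) ^ orderOf d) := Commute.pow_right (mem_cz.1 hg) _
    rw [hcd.mul_pow, pow_orderOf_eq_one, mul_one] at h1
    exact mem_cz.2 (hm ▸ h1.pow_right m)
  exact le_inf (aux a b hab hco) (hab.eq ▸ aux b a hab.symm hco.symm)

theorem mul_ne_one {a b : G} (hco : (orderOf a).Coprime (orderOf b)) (ha : a ≠ 1) : a * b ≠ 1 := by
  intro h
  have h1 : orderOf a = orderOf b := by rw [eq_inv_of_mul_eq_one_left h, orderOf_inv]
  rw [h1, Nat.coprime_self, ← h1, orderOf_eq_one_iff] at hco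
  exact ha hco

theorem isPGroup_of_primes {p : ℕ} [Fact p.Prime] {X : Type*} [Group X] [Finite X]
    (h : ∀ d : ℕ, d.Prime → d ∣ Nat.card X → d = p) : IsPGroup p X :=
  IsPGroup.of_card (n := (Nat.card X).factorization p)
    (Nat.eq_prime_pow_of_unique_prime_dvd (p := p) Nat.card_pos.ne' (fun hd hdd => h _ hd hdd)
      |>.trans (by
        congr 1
        conv_rhs => rw [Nat.eq_prime_pow_of_unique_prime_dvd (p := p) Nat.card_pos.ne'
          (fun hd hdd => h _ hd hdd), Nat.Prime.factorization_pow (Fact.out : p.Prime)]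
        simp))

/-! ### the automiser -/

theorem autOrder_ne_zero (P : Subgroup G) : autOrder P ≠ 0 :=
  Subgroup.index_ne_zero_of_finite

theorem autOrder_dvd_card (P : Subgroup G) : autOrder P ∣ Nat.card G :=
  (Subgroup.relIndex_dvd_card _ _).trans (Subgroup.card_subgroup_dvd_card _)

theorem index_mul_eq (P : Subgroup G) :
    (Subgroup.normalizer (P : Set G)).index * Nat.card (Subgroup.centralizer (P : Set G)) *
      autOrder P = Nat.card G := by
  rw [autOrder, mul_comm _ (Nat.card _), mul_assoc, mul_comm (Subgroup.index _),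
    Subgroup.relIndex_mul_index (Subgroup.centralizer_le_normalizer _), Subgroup.card_mul_index]

theorem dvd_autOrder {p : ℕ} (P : Sylow p G) :
    (Subgroup.center (P : Subgroup G)).index ∣ autOrder (P : Subgroup G) := by
  set N := Subgroup.normalizer ((P : Subgroup G) : Set G)
  set C := Subgroup.centralizer ((P : Subgroup G) : Set G)
  have h1 : (C.subgroupOf N).relIndex ((P : Subgroup G).subgroupOf N) ∣ (C.subgroupOf N).index :=
    Subgroup.relIndex_dvd_index_of_normal ..
  rw [Subgroup.relIndex_subgroupOf Subgroup.le_normalizer] at h1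
  have h2 : C.subgroupOf (P : Subgroup G) = Subgroup.center (P : Subgroup G) := by
    ext x
    simp only [Subgroup.mem_subgroupOf, C, Subgroup.mem_centralizer_iff, Subgroup.mem_center_iff,
      Subtype.forall, SetLike.mem_coe, Subtype.ext_iff, Subgroup.coe_mul]
  rw [← h2]
  exact h1

theorem conj_mem_centralizer {P : Subgroup G} {m y : G} (hm : m ∈ Subgroup.normalizer (P : Set G))
    (hy : y ∈ Subgroup.centralizer (P : Set G)) :
    m * y * m⁻¹ ∈ Subgroup.centralizer (P : Set G) := by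
  refine Subgroup.mem_centralizer_iff.2 fun w hw => ?_
  have h' : m⁻¹ * w * m ∈ P := Subgroup.mem_normalizer_iff''.1 hm w |>.1 hw
  have h1 := Subgroup.mem_centralizer_iff.1 hy _ h'
  calc w * (m * y * m⁻¹) = m * ((m⁻¹ * w * m) * y) * m⁻¹ := by group
    _ = m * (y * (m⁻¹ * w * m)) * m⁻¹ := by rw [h1]
    _ = m * y * m⁻¹ * w := by group

/-! ### counting -/

/-- the non-trivial elements with class size prime to `p` -/
def good (p : ℕ) (G : Type u) [Group G] : Set G := {x : G | x ≠ 1 ∧ ¬ p ∣ (cz x).index}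

noncomputable def toGood (P : Subgroup G) :
    (G ⧸ Subgroup.normalizer (P : Set G)) × {y : Subgroup.centralizer (P : Set G) // y ≠ 1} → G :=
  fun a => a.1.out * (a.2.1 : G) * a.1.out⁻¹

theorem card_ne_one' (C : Subgroup G) :
    Nat.card {y : C // y ≠ 1} = Nat.card C - 1 := by
  classical
  haveI := Fintype.ofFinite C
  rw [Nat.card_eq_fintype_card, Nat.card_eq_fintype_card, Fintype.card_subtype_compl,
    Fintype.card_subtype_eq]

theorem good_subset {p : ℕ} [Fact p.Prime] (P : Sylow p G) :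
    good p G ⊆ Set.range (toGood (P : Subgroup G)) := by
  rintro x ⟨hx1, hx⟩
  obtain ⟨g, hg⟩ := exists_conj_cent P hx
  set q : G ⧸ Subgroup.normalizer ((P : Subgroup G) : Set G) := QuotientGroup.mk g with hq
  have hm : q.out⁻¹ * g ∈ Subgroup.normalizer ((P : Subgroup G) : Set G) :=
    QuotientGroup.eq.1 (QuotientGroup.out_eq' q)
  have hy := conj_mem_centralizer hm hg
  refine ⟨(q, ⟨⟨_, hy⟩, fun h => hx1 ?_⟩), ?_⟩
  · have h' := congrArg Subtype.val h
    simp only [Subgroup.coe_one] at h'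
    have h2 : g⁻¹ * x * g = 1 := by
      have := conj_eq_one_iff.1 h'
      exact this
    calc x = g * (g⁻¹ * x * g) * g⁻¹ := by group
      _ = 1 := by rw [h2]; group
  · simp only [toGood]
    group

theorem range_subset {p : ℕ} [Fact p.Prime] (P : Sylow p G) :
    Set.range (toGood (P : Subgroup G)) ⊆ good p G := by
  rintro _ ⟨⟨q, y⟩, rfl⟩
  refine ⟨fun h => y.2 (Subtype.ext (conj_eq_one_iff.1 h)), ?_⟩
  simp only [toGood]
  rw [index_cz_conj]
  exact fun hd => P.not_dvd_index (hd.trans (Subgroup.index_dvd_of_le (le_cz y.1.2)))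

theorem card_good_le {p : ℕ} [Fact p.Prime] (P : Sylow p G) :
    (good p G).ncard * autOrder (P : Subgroup G) + autOrder (P : Subgroup G) ≤ Nat.card G := by
  have h1 : (good p G).ncard ≤ (Subgroup.normalizer ((P : Subgroup G) : Set G)).index *
      (Nat.card (Subgroup.centralizer ((P : Subgroup G) : Set G)) - 1) := by
    refine (Set.ncard_le_ncard (good_subset P) (Set.toFinite _)).trans ?_
    rw [← Nat.card_coe_set_eq]
    refine (Finite.card_range_le _).trans ?_
    rw [Nat.card_prod, card_ne_one', Subgroup.index]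
  have h2 := index_mul_eq (P : Subgroup G)
  have h3 : 1 ≤ (Subgroup.normalizer ((P : Subgroup G) : Set G)).index :=
    Nat.one_le_iff_ne_zero.2 Subgroup.index_ne_zero_of_finite
  have h4 : 1 ≤ Nat.card (Subgroup.centralizer ((P : Subgroup G) : Set G)) := Nat.card_pos
  obtain ⟨c, hc⟩ := Nat.exists_eq_add_of_le h4
  rw [hc, Nat.add_sub_cancel_left] at h1
  rw [hc] at h2
  nlinarith

theorem card_good_eq {p : ℕ} [Fact p.Prime] (P : Sylow p G)
    (hC : Subgroup.centralizer ((P : Subgroup G) : Set G) = P)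
    (hTI : ∀ y ∈ (P : Subgroup G), y ≠ 1 → cz y = (P : Subgroup G)) :
    (good p G).ncard = (Subgroup.normalizer ((P : Subgroup G) : Set G)).index *
      (Nat.card (P : Subgroup G) - 1) := by
  have hcard : Nat.card (P : Subgroup G) =
      Nat.card (Subgroup.centralizer ((P : Subgroup G) : Set G)) := by rw [hC]
  rw [Set.Subset.antisymm (good_subset P) (range_subset P), ← Nat.card_coe_set_eq,
    Nat.card_range_of_injective, Nat.card_prod, card_ne_one', hcard, Subgroup.index]
  rintro ⟨q, y⟩ ⟨q', y'⟩ he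
  simp only [toGood] at he
  have hyP : ∀ w : {y : Subgroup.centralizer ((P : Subgroup G) : Set G) // y ≠ 1},
      cz (w.1 : G) = (P : Subgroup G) :=
    fun w => hTI _ (hC.le w.1.2) fun h => w.2 (Subtype.ext h)
  set m := q.out⁻¹ * q'.out with hm
  have hy : (y.1 : G) = m * (y'.1 : G) * m⁻¹ := by
    calc (y.1 : G) = q.out⁻¹ * (q.out * (y.1 : G) * q.out⁻¹) * q.out := by group
      _ = q.out⁻¹ * (q'.out * (y'.1 : G) * q'.out⁻¹) * q.out := by rw [he]
      _ = m * (y'.1 : G) * m⁻¹ := by rw [hm]; group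
  have hmN : m ∈ Subgroup.normalizer ((P : Subgroup G) : Set G) := by
    refine Subgroup.mem_normalizer_iff.2 fun w => ?_
    rw [← hyP y', mem_cz]
    conv_rhs => rw [hyP y', ← hyP y, mem_cz, hy]
    constructor
    · intro hw
      calc m * w * m⁻¹ * (m * (y'.1 : G) * m⁻¹) = m * (w * (y'.1 : G)) * m⁻¹ := by group
        _ = m * ((y'.1 : G) * w) * m⁻¹ := by rw [hw]
        _ = m * (y'.1 : G) * m⁻¹ * (m * w * m⁻¹) := by group
    · intro hw
      calc w * (y'.1 : G) = m⁻¹ * (m * w * m⁻¹ * (m * (y'.1 : G) * m⁻¹)) * m := by group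
        _ = m⁻¹ * (m * (y'.1 : G) * m⁻¹ * (m * w * m⁻¹)) * m := by rw [hw]
        _ = (y'.1 : G) * w := by group
  have hqq : q = q' := by
    rw [← QuotientGroup.out_eq' q, ← QuotientGroup.out_eq' q']
    exact QuotientGroup.eq.2 hmN
  subst hqq
  have : (y.1 : G) = (y'.1 : G) := by simpa [hm] using hy
  exact Prod.ext rfl (Subtype.ext (Subtype.ext this))

section Simple

variable [IsSimpleGroup G] (hna : ¬ IsMulCommutative G) (h : ClassTwo G)

theorem center_bot (hna : ¬ IsMulCommutative G) : Subgroup.center G = ⊥ := by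
  rcases (inferInstance : (Subgroup.center G).Normal).eq_bot_or_eq_top with h | h
  · exact h
  · exact absurd ⟨⟨fun a b => Subgroup.mem_center_iff.1 (h ▸ Subgroup.mem_top b) a⟩⟩ hna

theorem not_isPGroup (hna : ¬ IsMulCommutative G) (p : ℕ) [Fact p.Prime] : ¬ IsPGroup p G := by
  intro hp
  haveI : Nontrivial G := IsSimpleGroup.toNontrivial
  have := hp.center_nontrivial
  exact (Subgroup.nontrivial_iff_ne_bot _).1 this (center_bot hna)

theorem not_prime_card (hna : ¬ IsMulCommutative G) : ¬ (Nat.card G).Prime := fun hp => by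
  haveI := Fact.mk hp
  haveI := isCyclic_of_prime_card (α := G) (p := Nat.card G) rfl
  exact hna IsCyclic.isMulCommutative

theorem two_le (hna : ¬ IsMulCommutative G) {p : ℕ} [Fact p.Prime] (hp : p ∣ Nat.card G)
    (P : Sylow p G) : 2 ≤ autOrder (P : Subgroup G) := by
  have h0 := autOrder_ne_zero (P : Subgroup G)
  rcases Nat.lt_or_ge (autOrder (P : Subgroup G)) 2 with h1 | h1
  swap
  · exact h1
  exfalso
  have he : autOrder (P : Subgroup G) = 1 := by omega
  have hle : Subgroup.normalizer ((P : Subgroup G) : Set G) ≤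
      Subgroup.centralizer ((P : Subgroup G) : Set G) := Subgroup.relIndex_eq_one.1 he
  have hk := MonoidHom.ker_transferSylow_isComplement' P hle
  rcases (MonoidHom.normal_ker (MonoidHom.transferSylow P hle)).eq_bot_or_eq_top with hb | ht
  · rw [hb, Subgroup.isComplement'_bot_left] at hk
    refine not_isPGroup hna p ?_
    have := P.2
    rw [hk] at this
    exact this.of_equiv Subgroup.topEquiv
  · have := MonoidHom.not_dvd_card_ker_transferSylow P hle
    rw [ht, Subgroup.card_top] at this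
    exact this hp

include hna h

theorem card_idx {x : G} (hx : x ≠ 1) : (cz x).index.primeFactors.card = 2 := by
  refine le_antisymm (h x) ?_
  by_contra hlt
  have hi0 : (cz x).index ≠ 0 := Subgroup.index_ne_zero_of_finite
  rcases Nat.lt_or_ge 1 (cz x).index with h1 | h1
  swap
  · have hi : (cz x).index = 1 := by omega
    have : x ∈ Subgroup.center G := Subgroup.mem_center_iff.2 fun g =>
      mem_cz.1 (Subgroup.index_eq_one.1 hi ▸ Subgroup.mem_top g)
    rw [center_bot hna, Subgroup.mem_bot] at this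
    exact hx this
  have hp := Nat.exists_prime_and_dvd (n := (cz x).index) (by omega)
  obtain ⟨p, hpp, hpd⟩ := hp
  have hpp' : (cz x).index = p ^ (cz x).index.factorization p := by
    refine (Nat.eq_prime_pow_of_unique_prime_dvd (p := p) hi0 fun {d} hd hdd => ?_).trans ?_
    · by_contra hne
      have hsub : ({p, d} : Finset ℕ) ⊆ (cz x).index.primeFactors := by
        intro a ha
        rcases Finset.mem_insert.1 ha with rfl | ha
        · exact Nat.mem_primeFactors.2 ⟨hpp, hpd, hi0⟩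
        · rw [Finset.mem_singleton.1 ha]
          exact Nat.mem_primeFactors.2 ⟨hd, hdd, hi0⟩
      have := Finset.card_le_card hsub
      rw [Finset.card_pair (Ne.symm hne)] at this
      exact hlt this
    · congr 1
      conv_rhs => rw [Nat.eq_prime_pow_of_unique_prime_dvd (p := p) hi0 (fun {d} hd hdd => by
        by_contra hne
        have hsub : ({p, d} : Finset ℕ) ⊆ (cz x).index.primeFactors := by
          intro a ha
          rcases Finset.mem_insert.1 ha with rfl | ha
          · exact Nat.mem_primeFactors.2 ⟨hpp, hpd, hi0⟩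
          · rw [Finset.mem_singleton.1 ha]
            exact Nat.mem_primeFactors.2 ⟨hd, hdd, hi0⟩
        have := Finset.card_le_card hsub
        rw [Finset.card_pair (Ne.symm hne)] at this
        exact hlt this), hpp.factorization_pow]
      simp
  exact not_prime_card hna (Cfsg.Agent.S0143.result p _ hpp x hx hpp')

theorem sum_good : ((Nat.card G).primeFactors.card - 2) * (Nat.card G - 1) =
    ∑ p ∈ (Nat.card G).primeFactors, (good p G).ncard := by
  classical
  haveI := Fintype.ofFinite G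
  have hcard : ∀ p, (good p G).ncard =
      ((Finset.univ.erase (1 : G)).filter fun x => ¬ p ∣ (cz x).index).card := fun p => by
    rw [← Set.ncard_coe_finset]
    congr 1
    ext x
    simp [good]
  simp only [hcard, Finset.card_filter]
  rw [Finset.sum_comm, Finset.sum_congr rfl (g := fun _ => (Nat.card G).primeFactors.card - 2)]
  · simp [Nat.card_eq_fintype_card, mul_comm]
  intro x hx
  rw [← Finset.card_filter, ← card_idx hna h (Finset.ne_of_mem_erase hx)]
  have hsub : (cz x).index.primeFactors ⊆ (Nat.card G).primeFactors :=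
    Nat.primeFactors_mono (Subgroup.index_dvd_card _) Nat.card_pos.ne'
  rw [← Finset.card_sdiff_of_subset hsub]
  congr 1
  ext p
  simp only [Finset.mem_filter, Finset.mem_sdiff, Nat.mem_primeFactors]
  constructor
  · rintro ⟨hp, hd⟩
    exact ⟨hp, fun h' => hd h'.2.1⟩
  · rintro ⟨hp, hd⟩
    exact ⟨hp, fun h' => hd ⟨hp.1, h', Subgroup.index_ne_zero_of_finite⟩⟩

theorem three_le_card : 3 ≤ (Nat.card G).primeFactors.card := by
  by_contra hlt
  have hn0 : Nat.card G ≠ 0 := Nat.card_pos.ne'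
  haveI : Nontrivial G := IsSimpleGroup.toNontrivial
  obtain ⟨x, hx⟩ := exists_ne (1 : G)
  have h2 := card_idx hna h hx
  have hsub : (cz x).index.primeFactors ⊆ (Nat.card G).primeFactors :=
    Nat.primeFactors_mono (Subgroup.index_dvd_card _) hn0
  have hk : (Nat.card G).primeFactors.card = 2 := by
    have := Finset.card_le_card hsub
    omega
  obtain ⟨p, q, hpq, he⟩ := Finset.card_eq_two.1 hk
  have hp : p.Prime := Nat.prime_of_mem_primeFactors (by rw [he]; simp)
  have hq : q.Prime := Nat.prime_of_mem_primeFactors (by rw [he]; simp)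
  have hcard := Nat.prod_factorization_pow_eq_self hn0
  rw [Finsupp.prod, Nat.support_factorization, he, Finset.prod_pair hpq] at hcard
  have hsol := Cfsg.Agent.S0144.result (G := G) p q _ _ hp hq hcard.symm
  haveI := hsol
  exact hna ⟨⟨fun a b => IsSimpleGroup.comm_iff_isSolvable.2 hsol a b⟩⟩

theorem good_le' {p : ℕ} (hp : p ∈ (Nat.card G).primeFactors) (m : ℕ)
    (hm : ∀ (P : Subgroup G), 2 ≤ autOrder P → m ≤ autOrder P) :
    m * ((good p G).ncard + 1) ≤ Nat.card G := by
  haveI := Fact.mk (Nat.prime_of_mem_primeFactors hp)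
  let P : Sylow p G := default
  have h2 := hm _ (two_le hna (Nat.dvd_of_mem_primeFactors hp) P)
  have := card_good_le P
  nlinarith

theorem card_pi : (Nat.card G).primeFactors.card = 3 ∧ 2 ∈ (Nat.card G).primeFactors := by
  have h3 := three_le_card hna h
  have hs := sum_good hna h
  have hn : 2 ≤ Nat.card G := by
    haveI : Nontrivial G := IsSimpleGroup.toNontrivial
    exact Finite.one_lt_card
  obtain ⟨k, hk⟩ := Nat.exists_eq_add_of_le h3
  obtain ⟨N, hN⟩ := Nat.exists_eq_add_of_le hn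
  have key : ∀ m : ℕ, (∀ (P : Subgroup G), 2 ≤ autOrder P → m ≤ autOrder P) →
      m * (((1 + k) * (1 + N)) + (3 + k)) ≤ (3 + k) * (2 + N) := by
    intro m hm
    have := Finset.sum_le_sum fun p hp => good_le' hna h (p := p) hp m hm
    rw [← Finset.mul_sum, Finset.sum_add_distrib, ← hs, Finset.sum_const, Finset.sum_const, hk,
      hN, smul_eq_mul, smul_eq_mul, mul_one, show 3 + k - 2 = 1 + k from by omega,
      show 2 + N - 1 = 1 + N from by omega] at this
    exact this
  have hk0 : k = 0 := by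
    have := key 2 fun P hP => hP
    by_contra hne
    have : 1 ≤ k := Nat.one_le_iff_ne_zero.2 hne
    nlinarith
  refine ⟨by omega, Nat.mem_primeFactors.2 ⟨Nat.prime_two, ?_, Nat.card_pos.ne'⟩⟩
  by_contra h2
  have h2' := key 3 fun P hP => by
    by_contra hlt
    have : autOrder P = 2 := by omega
    exact h2 (this ▸ autOrder_dvd_card P)
  subst hk0
  omega

theorem exists_type {x : G} (hx : x ≠ 1) :
    ∃ p : ℕ, p.Prime ∧ p ∣ Nat.card G ∧ ¬ p ∣ (cz x).index := by
  have hsub : (cz x).index.primeFactors ⊆ (Nat.card G).primeFactors :=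
    Nat.primeFactors_mono (Subgroup.index_dvd_card _) Nat.card_pos.ne'
  have h1 : ((Nat.card G).primeFactors \ (cz x).index.primeFactors).card = 1 := by
    rw [Finset.card_sdiff_of_subset hsub, card_idx hna h hx, (card_pi hna h).1]
  obtain ⟨p, hp⟩ := Finset.card_eq_one.1 h1
  have hm : p ∈ (Nat.card G).primeFactors \ (cz x).index.primeFactors := by rw [hp]; simp
  obtain ⟨hm1, hm2⟩ := Finset.mem_sdiff.1 hm
  exact ⟨p, Nat.prime_of_mem_primeFactors hm1, Nat.dvd_of_mem_primeFactors hm1, fun hd =>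
    hm2 (Nat.mem_primeFactors.2 ⟨Nat.prime_of_mem_primeFactors hm1, hd,
      Subgroup.index_ne_zero_of_finite⟩)⟩

theorem uniq {x : G} (hx : x ≠ 1) {p q : ℕ} (hp : p.Prime) (hq : q.Prime) (hpG : p ∣ Nat.card G)
    (hqG : q ∣ Nat.card G) (h1 : ¬ p ∣ (cz x).index) (h2 : ¬ q ∣ (cz x).index) : p = q := by
  by_contra hne
  have hsub : (cz x).index.primeFactors ⊆ ((Nat.card G).primeFactors.erase p).erase q := by
    intro d hd
    refine Finset.mem_erase.2 ⟨?_, Finset.mem_erase.2 ⟨?_, Nat.primeFactors_mono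
      (Subgroup.index_dvd_card _) Nat.card_pos.ne' hd⟩⟩
    · rintro rfl
      exact h2 (Nat.dvd_of_mem_primeFactors hd)
    · rintro rfl
      exact h1 (Nat.dvd_of_mem_primeFactors hd)
  have := Finset.card_le_card hsub
  have hpm : p ∈ (Nat.card G).primeFactors := Nat.mem_primeFactors.2 ⟨hp, hpG, Nat.card_pos.ne'⟩
  have hqm : q ∈ (Nat.card G).primeFactors.erase p :=
    Finset.mem_erase.2 ⟨Ne.symm hne, Nat.mem_primeFactors.2 ⟨hq, hqG, Nat.card_pos.ne'⟩⟩
  rw [card_idx hna h hx, Finset.card_erase_of_mem hqm, Finset.card_erase_of_mem hpm,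
    (card_pi hna h).1] at this
  omega

theorem two_dvd : 2 ∣ Nat.card G := Nat.dvd_of_mem_primeFactors (card_pi hna h).2

theorem exists_primes' : ∃ r t : ℕ, r.Prime ∧ t.Prime ∧ r ≠ 2 ∧ t ≠ 2 ∧ r ≠ t ∧
    (Nat.card G).primeFactors = {2, r, t} := by
  obtain ⟨h3, h2⟩ := card_pi hna h
  have h' : ((Nat.card G).primeFactors.erase 2).card = 2 := by
    rw [Finset.card_erase_of_mem h2, h3]
  obtain ⟨r, t, hrt, he⟩ := Finset.card_eq_two.1 h'
  have hr : r ∈ (Nat.card G).primeFactors.erase 2 := by rw [he]; simp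
  have ht : t ∈ (Nat.card G).primeFactors.erase 2 := by rw [he]; simp
  refine ⟨r, t, Nat.prime_of_mem_primeFactors (Finset.mem_of_mem_erase hr),
    Nat.prime_of_mem_primeFactors (Finset.mem_of_mem_erase ht), Finset.ne_of_mem_erase hr,
    Finset.ne_of_mem_erase ht, hrt, ?_⟩
  rw [← he, Finset.insert_erase h2]

theorem sum_three {r t : ℕ} (hπ : (Nat.card G).primeFactors = {2, r, t}) (hr : r ≠ 2) (ht : t ≠ 2)
    (hrt : r ≠ t) :
    Nat.card G - 1 = (good 2 G).ncard + (good r G).ncard + (good t G).ncard := by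
  have := sum_good hna h
  rw [(card_pi hna h).1, hπ, Finset.sum_insert (by simp [Ne.symm hr, Ne.symm ht]),
    Finset.sum_pair hrt] at this
  omega

theorem one_lt_sum' {r t : ℕ} [Fact r.Prime] [Fact t.Prime]
    (hπ : (Nat.card G).primeFactors = {2, r, t}) (hr : r ≠ 2) (ht : t ≠ 2) (hrt : r ≠ t)
    (Q : Sylow 2 G) (R : Sylow r G) (T : Sylow t G) :
    (1 : ℚ) < 1 / (autOrder (Q : Subgroup G) : ℚ) + 1 / (autOrder (R : Subgroup G) : ℚ) +
      1 / (autOrder (T : Subgroup G) : ℚ) := by
  haveI := Fact.mk Nat.prime_two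
  have hs := sum_three hna h hπ hr ht hrt
  have a := card_good_le Q
  have b := card_good_le R
  have c := card_good_le T
  have hn : 1 ≤ Nat.card G := Nat.card_pos
  have hs' : (Nat.card G : ℚ) = 1 + (good 2 G).ncard + (good r G).ncard + (good t G).ncard := by
    have : Nat.card G = 1 + (good 2 G).ncard + (good r G).ncard + (good t G).ncard := by omega
    exact_mod_cast this
  have key : ∀ (x e : ℕ), e ≠ 0 → x * e + e ≤ Nat.card G →
      (x : ℚ) + 1 ≤ (Nat.card G : ℚ) * (1 / (e : ℚ)) := by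
    intro x e he hle
    have he' : (0 : ℚ) < e := by exact_mod_cast Nat.pos_of_ne_zero he
    rw [mul_one_div, le_div_iff₀ he']
    have : ((x * e + e : ℕ) : ℚ) ≤ (Nat.card G : ℚ) := by exact_mod_cast hle
    push_cast at this
    linarith
  have a' := key _ _ (autOrder_ne_zero _) a
  have b' := key _ _ (autOrder_ne_zero _) b
  have c' := key _ _ (autOrder_ne_zero _) c
  have hnq : (1 : ℚ) ≤ (Nat.card G : ℚ) := by exact_mod_cast hn
  nlinarith

omit h in
theorem odd_autOrder_of_comm (Q : Sylow 2 G) (hQ : IsMulCommutative (Q : Subgroup G)) :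
    Odd (autOrder (Q : Subgroup G)) := by
  haveI := Fact.mk Nat.prime_two
  rw [Nat.odd_iff, ← Nat.two_dvd_ne_zero]
  have hle : (Q : Subgroup G) ≤ Subgroup.centralizer ((Q : Subgroup G) : Set G) := fun x hx =>
    Subgroup.mem_centralizer_iff.2 fun y hy =>
      congrArg Subtype.val (hQ.is_comm.comm ⟨y, hy⟩ ⟨x, hx⟩)
  exact fun hd => Q.not_dvd_index (hd.trans ((Subgroup.relIndex_dvd_of_le_left _ hle).trans
    (Subgroup.relIndex_dvd_index_of_le Subgroup.le_normalizer)))

omit hna h [IsSimpleGroup G] in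
theorem sq_dvd_center_index {p : ℕ} [Fact p.Prime] (P : Sylow p G)
    (hP : ¬ IsMulCommutative (P : Subgroup G)) :
    p ^ 2 ∣ (Subgroup.center (P : Subgroup G)).index := by
  obtain ⟨k, hk⟩ := P.2.index (Subgroup.center (P : Subgroup G))
  rcases Nat.lt_or_ge k 2 with h1 | h1
  swap
  · exact hk ▸ Nat.pow_dvd_pow p h1
  exfalso
  apply hP
  haveI : IsCyclic ((P : Subgroup G) ⧸ Subgroup.center (P : Subgroup G)) := by
    have hc : Nat.card ((P : Subgroup G) ⧸ Subgroup.center (P : Subgroup G)) = p ^ k := hk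
    interval_cases k
    · haveI : Subsingleton ((P : Subgroup G) ⧸ Subgroup.center (P : Subgroup G)) :=
        (Nat.card_eq_one_iff_unique.1 hc).1
      infer_instance
    · exact isCyclic_of_prime_card (p := p) (by rw [hc, pow_one])
  exact MonoidHom.isMulCommutative_of_isCyclic_of_ker_le_center
    (QuotientGroup.mk' (Subgroup.center (P : Subgroup G))) (by rw [QuotientGroup.ker_mk'])

theorem three_le_autOrder_two (Q : Sylow 2 G) : 3 ≤ autOrder (Q : Subgroup G) := by
  haveI := Fact.mk Nat.prime_two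
  have h2 := two_le hna (two_dvd hna h) Q
  by_cases hQ : IsMulCommutative (Q : Subgroup G)
  · obtain ⟨m, hm⟩ := odd_autOrder_of_comm hna Q hQ
    omega
  · have := Nat.le_of_dvd (Nat.pos_of_ne_zero (autOrder_ne_zero _))
      ((sq_dvd_center_index Q hQ).trans (dvd_autOrder Q))
    omega

theorem comm_odd {r : ℕ} [hr' : Fact r.Prime] (hr : r ≠ 2) (hrG : r ∣ Nat.card G) (R : Sylow r G) :
    IsMulCommutative (R : Subgroup G) := by
  by_contra hR
  obtain ⟨a, b, ha, hb, ha2, hb2, hab, hπ⟩ := exists_primes' hna h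
  have hrm : r ∈ ({2, a, b} : Finset ℕ) :=
    hπ ▸ Nat.mem_primeFactors.2 ⟨hr'.out, hrG, Nat.card_pos.ne'⟩
  obtain ⟨t, ht, ht2, hrt, hπ'⟩ : ∃ t : ℕ, t.Prime ∧ t ≠ 2 ∧ r ≠ t ∧
      (Nat.card G).primeFactors = {2, r, t} := by
    rcases Finset.mem_insert.1 hrm with h' | h'
    · exact absurd h' hr
    rcases Finset.mem_insert.1 h' with h'' | h''
    · exact ⟨b, hb, hb2, h'' ▸ hab, h'' ▸ hπ⟩
    · rw [Finset.mem_singleton] at h''
      subst h''
      exact ⟨a, ha, ha2, hab.symm, by rw [hπ, Finset.pair_comm]⟩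
  haveI := Fact.mk ht
  haveI := Fact.mk Nat.prime_two
  let Q : Sylow 2 G := default
  let T : Sylow t G := default
  have hs := one_lt_sum' hna h hπ' hr ht2 hrt Q R T
  have e2 : (3 : ℚ) ≤ autOrder (Q : Subgroup G) := by
    exact_mod_cast three_le_autOrder_two hna h Q
  have er : (9 : ℚ) ≤ autOrder (R : Subgroup G) := by
    have h9 := Nat.le_of_dvd (Nat.pos_of_ne_zero (autOrder_ne_zero _))
      ((sq_dvd_center_index R hR).trans (dvd_autOrder R))
    have hr3 : 3 ≤ r := lt_of_le_of_ne hr'.out.two_le (Ne.symm hr)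
    have h9' : 9 ≤ autOrder (R : Subgroup G) := le_trans (by nlinarith) h9
    exact_mod_cast h9'
  have et : (2 : ℚ) ≤ autOrder (T : Subgroup G) := by
    have := two_le hna (Nat.dvd_of_mem_primeFactors (n := Nat.card G) (p := t)
      (by rw [hπ']; simp)) T
    exact_mod_cast this
  have i1 : 1 / (autOrder (Q : Subgroup G) : ℚ) ≤ 1 / 3 :=
    one_div_le_one_div_of_le (by norm_num) e2
  have i2 : 1 / (autOrder (R : Subgroup G) : ℚ) ≤ 1 / 9 :=
    one_div_le_one_div_of_le (by norm_num) er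
  have i3 : 1 / (autOrder (T : Subgroup G) : ℚ) ≤ 1 / 2 :=
    one_div_le_one_div_of_le (by norm_num) et
  linarith

/-- an element of odd prime power order has class size prime to that prime -/
theorem not_dvd_of_odd {r : ℕ} [Fact r.Prime] (hr : r ≠ 2) {x : G}
    (hx : IsPGroup r (Subgroup.zpowers x)) : ¬ r ∣ (cz x).index := by
  intro hd
  have hrG : r ∣ Nat.card G := hd.trans (Subgroup.index_dvd_card _)
  let R : Sylow r G := default
  exact not_dvd_index_of_mem R (comm_odd hna h hr hrG R) hx hd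

/-- the centraliser of an odd Sylow subgroup only involves the primes `r` and `2` -/
theorem primes_cent {r : ℕ} [hr' : Fact r.Prime] (hrG : r ∣ Nat.card G) (R : Sylow r G)
    {d : ℕ} (hd : d.Prime)
    (hdc : d ∣ Nat.card (Subgroup.centralizer ((R : Subgroup G) : Set G))) : d = r ∨ d = 2 := by
  by_contra hne
  push Not at hne
  haveI := Fact.mk hd
  obtain ⟨y, hy⟩ := exists_prime_orderOf_dvd_card' d hdc
  have hy' : orderOf (y : G) = d := by rw [Subgroup.orderOf_coe, hy]
  have hy1 : (y : G) ≠ 1 := fun he => hd.ne_one (by rw [← hy', he, orderOf_one])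
  have h1 : ¬ r ∣ (cz (y : G)).index := fun hh =>
    R.not_dvd_index (hh.trans (Subgroup.index_dvd_of_le (le_cz y.2)))
  exact hne.1 (uniq hna h hy1 hd hr'.out (hdc.trans (Subgroup.card_subgroup_dvd_card _)) hrG
    (not_dvd_of_odd hna h hne.2 (isPGroup_zpowers_of_orderOf (k := 1) (by rw [hy', pow_one]))) h1)

theorem center_two (Q : Sylow 2 G) {z : G} (hz : z ∈ (Q : Subgroup G))
    (hzc : ∀ y ∈ (Q : Subgroup G), y * z = z * y) (hz1 : z ≠ 1) :
    cz z = (Q : Subgroup G) := by
  haveI := Fact.mk Nat.prime_two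
  have hQC : (Q : Subgroup G) ≤ cz z := fun y hy => mem_cz.2 (hzc y hy)
  have h2 : ¬ 2 ∣ (cz z).index := fun hd =>
    Q.not_dvd_index (hd.trans (Subgroup.index_dvd_of_le hQC))
  refine Q.3 (isPGroup_of_primes fun q hq hqd => ?_) hQC
  by_contra hq2
  haveI := Fact.mk hq
  obtain ⟨w, hw⟩ := exists_prime_orderOf_dvd_card' q hqd
  have hwo : orderOf (w : G) = q := by rw [Subgroup.orderOf_coe, hw]
  have hw1 : (w : G) ≠ 1 := fun he => hq.ne_one (by rw [← hwo, he, orderOf_one])
  have hco : (orderOf z).Coprime (orderOf (w : G)) := by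
    obtain ⟨k, hk⟩ := (IsPGroup.iff_orderOf.1 Q.2) ⟨z, hz⟩
    rw [← Subgroup.orderOf_coe] at hk
    rw [hk, hwo]
    exact Nat.Coprime.pow_left _ ((Nat.coprime_primes Nat.prime_two hq).2 (Ne.symm hq2))
  have hcom : Commute z (w : G) := (mem_cz.1 w.2).symm
  obtain ⟨p, hp, hpG, hpi⟩ := exists_type hna h (mul_ne_one hco hz1 : z * (w : G) ≠ 1)
  have hle := cz_mul_le hcom hco
  have hpz : ¬ p ∣ (cz z).index := fun hd =>
    hpi (hd.trans (Subgroup.index_dvd_of_le (hle.trans inf_le_left)))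
  have hpw : ¬ p ∣ (cz (w : G)).index := fun hd =>
    hpi (hd.trans (Subgroup.index_dvd_of_le (hle.trans inf_le_right)))
  have hp2 : p = 2 := uniq hna h hz1 hp Nat.prime_two hpG (two_dvd hna h) hpz h2
  have hqG : q ∣ Nat.card G := hqd.trans (Subgroup.card_subgroup_dvd_card _)
  exact hq2 ((uniq hna h hw1 hp hq hpG hqG hpw
    (not_dvd_of_odd hna h hq2 (isPGroup_zpowers_of_orderOf (k := 1) (by rw [hwo, pow_one])))).symm.trans hp2)

theorem exists_center_ne_one (Q : Sylow 2 G) :
    ∃ z : G, z ∈ (Q : Subgroup G) ∧ (∀ y ∈ (Q : Subgroup G), y * z = z * y) ∧ z ≠ 1 := by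
  haveI := Fact.mk Nat.prime_two
  haveI : Nontrivial (Q : Subgroup G) :=
    (Subgroup.nontrivial_iff_ne_bot _).2 fun hb => Q.not_dvd_index (by
      rw [hb, Subgroup.index_bot]; exact two_dvd hna h)
  haveI := Q.2.center_nontrivial
  obtain ⟨c, hc⟩ := exists_ne (1 : Subgroup.center (Q : Subgroup G))
  exact ⟨c.1, c.1.2, fun y hy => congrArg Subtype.val (Subgroup.mem_center_iff.1 c.2 ⟨y, hy⟩),
    fun he => hc (Subtype.ext (Subtype.ext he))⟩

theorem cent_two_le (Q : Sylow 2 G) :
    Subgroup.centralizer ((Q : Subgroup G) : Set G) ≤ (Q : Subgroup G) := by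
  obtain ⟨z, hz, hzc, hz1⟩ := exists_center_ne_one hna h Q
  intro c hc
  rw [← center_two hna h Q hz hzc hz1]
  exact mem_cz.2 (Subgroup.mem_centralizer_iff.1 hc z hz).symm

theorem not_eight (Q : Sylow 2 G) (hQ : ¬ IsMulCommutative (Q : Subgroup G)) :
    Nat.card (Q : Subgroup G) ≠ 8 := by
  intro h8
  haveI := Fact.mk Nat.prime_two
  have hidx := sq_dvd_center_index Q hQ
  have hmul := (Subgroup.center (Q : Subgroup G)).card_mul_index
  rw [h8] at hmul
  haveI : Nontrivial (Q : Subgroup G) := Finite.one_lt_card_iff_nontrivial.1 (by rw [h8]; norm_num)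
  haveI := Q.2.center_nontrivial
  have hc2 : 2 ≤ Nat.card (Subgroup.center (Q : Subgroup G)) := Finite.one_lt_card
  obtain ⟨m, hm⟩ := hidx
  have hm1 : m = 1 := by
    rcases m with _ | _ | m
    · simp [hm] at hmul
    · rfl
    · rw [hm] at hmul; nlinarith
  have hZ : Nat.card (Subgroup.center (Q : Subgroup G)) = 2 := by
    rw [hm, hm1] at hmul; omega
  have hZsq : ∀ c ∈ Subgroup.center (Q : Subgroup G), c ^ 2 = 1 := fun c hc => by
    have := pow_card_eq_one' (x := (⟨c, hc⟩ : Subgroup.center (Q : Subgroup G)))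
    rw [hZ] at this
    exact congrArg Subtype.val this
  obtain ⟨w, hw⟩ : ∃ w : (Q : Subgroup G), w ^ 2 ≠ 1 := by
    by_contra hall
    push Not at hall
    refine hQ ⟨⟨fun a b => ?_⟩⟩
    have hi : ∀ g : (Q : Subgroup G), g⁻¹ = g := fun g => by
      rw [inv_eq_iff_mul_eq_one, ← pow_two]; exact hall g
    rw [← hi (a * b), mul_inv_rev, hi a, hi b]
  have hwsq : w ^ 2 ∈ Subgroup.center (Q : Subgroup G) := by
    have hq4 : Nat.card ((Q : Subgroup G) ⧸ Subgroup.center (Q : Subgroup G)) = 4 := by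
      rw [← Subgroup.index_eq_card, hm, hm1]; norm_num
    set g : (Q : Subgroup G) ⧸ Subgroup.center (Q : Subgroup G) := QuotientGroup.mk w with hg
    rw [← QuotientGroup.eq_one_iff, QuotientGroup.mk_pow, ← hg]
    have hd : orderOf g ∣ 2 ^ 2 := by
      have := orderOf_dvd_natCard g; rwa [hq4] at this
    obtain ⟨k, hk2, hk⟩ := (Nat.dvd_prime_pow Nat.prime_two).1 hd
    refine orderOf_dvd_iff_pow_eq_one.1 (hk ▸ ?_)
    interval_cases k
    · simp
    · simp
    · exfalso
      haveI : IsCyclic ((Q : Subgroup G) ⧸ Subgroup.center (Q : Subgroup G)) :=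
        isCyclic_of_orderOf_eq_card g (by rw [hk, hq4]; norm_num)
      exact hQ (MonoidHom.isMulCommutative_of_isCyclic_of_ker_le_center
        (QuotientGroup.mk' (Subgroup.center (Q : Subgroup G))) (by rw [QuotientGroup.ker_mk']))
  have hw1 : (w : G) ≠ 1 := fun he => hw (by rw [show w = 1 from Subtype.ext he, one_pow])
  have hz1 : (w : G) ^ 2 ≠ 1 := fun he => hw (Subtype.ext he)
  obtain ⟨p, hp, hpG, hpi⟩ := exists_type hna h hw1
  have hle : cz (w : G) ≤ cz ((w : G) ^ 2) := fun g hg =>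
    mem_cz.2 (Commute.pow_right (mem_cz.1 hg) 2)
  have h2z : ¬ 2 ∣ (cz ((w : G) ^ 2)).index := fun hd => Q.not_dvd_index (hd.trans
    (Subgroup.index_dvd_of_le fun y hy => mem_cz.2 (congrArg Subtype.val
      (Subgroup.mem_center_iff.1 hwsq ⟨y, hy⟩))))
  have hp2 : p = 2 := uniq hna h hz1 hp Nat.prime_two hpG (two_dvd hna h)
    (fun hd => hpi (hd.trans (Subgroup.index_dvd_of_le hle))) h2z
  subst hp2
  obtain ⟨g, hg⟩ := exists_conj_cent Q hpi
  have hu : g⁻¹ * (w : G) * g ∈ (Q : Subgroup G) := cent_two_le hna h Q hg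
  have huc : (⟨_, hu⟩ : (Q : Subgroup G)) ∈ Subgroup.center (Q : Subgroup G) :=
    Subgroup.mem_center_iff.2 fun y => Subtype.ext (Subgroup.mem_centralizer_iff.1 hg y.1 y.2)
  have husq := congrArg Subtype.val (hZsq _ huc)
  simp only [Subgroup.coe_pow, Subgroup.coe_one] at husq
  refine hz1 ?_
  have hrel : (w : G) ^ 2 = g * (g⁻¹ * (w : G) * g) ^ 2 * g⁻¹ := by
    rw [pow_two, pow_two]; group
  rw [hrel, husq]
  group

theorem not_four (Q : Sylow 2 G) (hQ : ¬ IsMulCommutative (Q : Subgroup G)) :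
    autOrder (Q : Subgroup G) ≠ 4 := by
  intro h4
  haveI := Fact.mk Nat.prime_two
  set N := Subgroup.normalizer ((Q : Subgroup G) : Set G) with hN
  set C := Subgroup.centralizer ((Q : Subgroup G) : Set G) with hC
  have hCQ : C ≤ (Q : Subgroup G) := cent_two_le hna h Q
  have hQN : (Q : Subgroup G) ≤ N := Subgroup.le_normalizer
  have hZidx : (Subgroup.center (Q : Subgroup G)).index = 4 := by
    have h1 := dvd_autOrder Q
    have h2 := sq_dvd_center_index Q hQ
    rw [h4] at h1
    exact Nat.dvd_antisymm h1 (by simpa using h2)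
  have hsub : C.subgroupOf (Q : Subgroup G) = Subgroup.center (Q : Subgroup G) := by
    ext x
    simp only [Subgroup.mem_subgroupOf, hC, Subgroup.mem_centralizer_iff, Subgroup.mem_center_iff,
      Subtype.forall, SetLike.mem_coe, Subtype.ext_iff, Subgroup.coe_mul]
  have hCQi : C.relIndex (Q : Subgroup G) = 4 := by rw [← hZidx, ← hsub]; rfl
  have hNQ : N ≤ (Q : Subgroup G) := by
    have hrel := Subgroup.relIndex_mul_relIndex C (Q : Subgroup G) N hCQ hQN
    rw [hCQi] at hrel
    have h4' : C.relIndex N = 4 := h4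
    exact Subgroup.relIndex_eq_one.1 (by omega)
  -- a central involution
  obtain ⟨z, hz, hzc, hzo⟩ : ∃ z : G, z ∈ (Q : Subgroup G) ∧
      (∀ y ∈ (Q : Subgroup G), y * z = z * y) ∧ orderOf z = 2 := by
    obtain ⟨c, hc, hcc, hc1⟩ := exists_center_ne_one hna h Q
    obtain ⟨k, hk⟩ := (IsPGroup.iff_orderOf.1 Q.2) ⟨c, hc⟩
    rw [← Subgroup.orderOf_coe] at hk
    obtain ⟨j, rfl⟩ : ∃ j, k = j + 1 := by
      rcases k with _ | j
      · exact absurd (orderOf_eq_one_iff.1 (by simpa using hk)) hc1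
      · exact ⟨j, rfl⟩
    refine ⟨c ^ 2 ^ j, pow_mem hc _, fun y hy => (Commute.pow_right (hcc y hy) _), ?_⟩
    rw [orderOf_pow' c (by positivity), hk, pow_succ,
      Nat.gcd_eq_right (Dvd.intro 2 rfl)]
    exact Nat.mul_div_cancel_left _ (by positivity)
  have hz1 : z ≠ 1 := fun he => by rw [he, orderOf_one] at hzo; norm_num at hzo
  -- it is not isolated
  obtain ⟨g, hgc, hgne⟩ : ∃ g : G, Commute z (g * z * g⁻¹) ∧ g * z * g⁻¹ ≠ z := by
    by_contra hall
    push Not at hall
    have hcore : Cfsg.pPrimeCore 2 G = ⊥ := by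
      haveI := H1.pPrimeCore_characteristic 2 G
      rcases (inferInstance : (Cfsg.pPrimeCore 2 G).Normal).eq_bot_or_eq_top with hb | ht
      · exact hb
      · exfalso
        have hco := H1.card_pPrimeCore_coprime 2 G
        rw [ht, Subgroup.card_top] at hco
        exact Nat.prime_two.coprime_iff_not_dvd.1 hco.symm (two_dvd hna h)
    have hzs := H85.zStar (u := z) ⟨hzo, hall⟩
    have : z ∈ Subgroup.center G := Subgroup.mem_center_iff.2 fun g => by
      have h1 := hzs g
      rw [hcore, Subgroup.mem_bot, mul_inv_eq_one, mul_inv_eq_iff_eq_mul] at h1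
      exact h1.symm
    rw [center_bot hna, Subgroup.mem_bot] at this
    exact hz1 this
  set v := g * z * g⁻¹ with hv
  have hvQ : v ∈ (Q : Subgroup G) := by
    rw [← center_two hna h Q hz hzc hz1]
    exact mem_cz.2 hgc.eq.symm
  -- it is not central in `Q` by Burnside fusion
  have hvnc : v ∉ C := fun hvc => by
    obtain ⟨n, hn, hne⟩ := Sylow.conj_eq_normalizer_conj_of_mem_centralizer Q z g⁻¹
      (Subgroup.mem_centralizer_iff.2 fun y hy => hzc y hy) (by rw [inv_inv]; exact hvc)
    rw [inv_inv] at hne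
    refine hgne (hv.symm ▸ hne.trans ?_)
    rw [mul_assoc, ← hzc n (hNQ hn), inv_mul_cancel_left]
  -- the two centres
  set Q' : Sylow 2 G := g • Q with hQ'
  have hv' : ∀ y ∈ (Q' : Subgroup G), y * v = v * y ∧ v ∈ (Q' : Subgroup G) := fun y hy => by
    refine ⟨?_, mem_smul' Q g hz⟩
    rw [hQ', Sylow.smul_def, Sylow.pointwise_smul_def,
      Subgroup.mem_pointwise_smul_iff_inv_smul_mem] at hy
    have h1 : g⁻¹ * y * g ∈ (Q : Subgroup G) := by simpa using hy
    have h2 := hzc _ h1
    calc y * v = g * ((g⁻¹ * y * g) * z) * g⁻¹ := by rw [hv]; group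
      _ = g * (z * (g⁻¹ * y * g)) * g⁻¹ := by rw [h2]
      _ = v * y := by rw [hv]; group
  have hcv : cz v = (Q' : Subgroup G) :=
    center_two hna h Q' (mem_smul' Q g hz) (fun y hy => (hv' y hy).1)
      (fun he => hz1 (conj_eq_one_iff.1 he))
  set A := (Q : Subgroup G) ⊓ cz v with hA
  have hCA : C ≤ A := le_inf hCQ fun c hc =>
    mem_cz.2 (Subgroup.mem_centralizer_iff.1 hc v hvQ).symm
  have hvA : v ∈ A := ⟨hvQ, mem_cz.2 rfl⟩
  -- `A` has index 2 in `Q`
  have hAC : C.relIndex A = 2 := by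
    have hrel := Subgroup.relIndex_mul_relIndex C A (Q : Subgroup G) hCA inf_le_left
    rw [hCQi] at hrel
    have h1 : C.relIndex A ≠ 1 := fun he => hvnc (Subgroup.relIndex_eq_one.1 he hvA)
    have h2 : A.relIndex (Q : Subgroup G) ≠ 1 := fun he => hvnc
      (Subgroup.mem_centralizer_iff.2 fun y hy =>
        mem_cz.1 (Subgroup.relIndex_eq_one.1 he hy).2)
    have h3 : C.relIndex A ∈ Nat.divisors 4 := Nat.mem_divisors.2 ⟨⟨_, hrel.symm⟩, by norm_num⟩
    have h4' : (Nat.divisors 4 : Finset ℕ) = {1, 2, 4} := by decide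
    rw [h4', Finset.mem_insert, Finset.mem_insert, Finset.mem_singleton] at h3
    rcases h3 with h3 | h3 | h3
    · exact absurd h3 h1
    · exact h3
    · rw [h3] at hrel; omega
  have hcardA : Nat.card A = 2 * Nat.card C := by
    rw [← Subgroup.card_mul_index (C.subgroupOf A)]
    rw [show (C.subgroupOf A).index = C.relIndex A from rfl, hAC,
      Nat.card_congr (Subgroup.subgroupOfEquivOfLe hCA).toEquiv, mul_comm]
  set C' := C.map (MulAut.conj g).toMonoidHom with hC'
  have hC'Q' : ∀ w ∈ C', ∀ y ∈ (Q' : Subgroup G), y * w = w * y := by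
    rintro _ ⟨c, hc, rfl⟩ y hy
    rw [hQ', Sylow.smul_def, Sylow.pointwise_smul_def,
      Subgroup.mem_pointwise_smul_iff_inv_smul_mem] at hy
    have h1 : g⁻¹ * y * g ∈ (Q : Subgroup G) := by simpa using hy
    have h2 := Subgroup.mem_centralizer_iff.1 hc _ h1
    simp only [MulEquiv.coe_toMonoidHom, MulAut.conj_apply]
    calc y * (g * c * g⁻¹) = g * ((g⁻¹ * y * g) * c) * g⁻¹ := by group
      _ = g * (c * (g⁻¹ * y * g)) * g⁻¹ := by rw [h2]
      _ = g * c * g⁻¹ * y := by group
  have hC'le : C' ≤ A := by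
    intro w hw
    have hzQ' : z ∈ (Q' : Subgroup G) := by rw [← hcv]; exact mem_cz.2 hgc.eq
    have h1 : w ∈ (Q : Subgroup G) := by
      rw [← center_two hna h Q hz hzc hz1]
      exact mem_cz.2 (hC'Q' w hw z hzQ').symm
    refine ⟨h1, mem_cz.2 (hC'Q' w hw v (mem_smul' Q g hz)).symm⟩
  have hcard' : Nat.card C' = Nat.card C :=
    Subgroup.card_map_of_injective (MulAut.conj g).injective
  -- hence the two centres meet
  have hC2 : Nat.card C ≠ 2 := fun h2 => not_eight hna h Q hQ (by
    rw [← Subgroup.card_mul_index (C.subgroupOf (Q : Subgroup G)),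
      show (C.subgroupOf (Q : Subgroup G)).index = C.relIndex (Q : Subgroup G) from rfl, hCQi,
      Nat.card_congr (Subgroup.subgroupOfEquivOfLe hCQ).toEquiv, h2])
  have hC1 : 2 ≤ Nat.card C := by
    have : C ≠ ⊥ := fun hb => hz1 (by
      have : z ∈ C := Subgroup.mem_centralizer_iff.2 fun y hy => hzc y hy
      rw [hb, Subgroup.mem_bot] at this
      exact this)
    exact (Subgroup.one_lt_card_iff_ne_bot C).2 this
  obtain ⟨w, hw, hw', hw1⟩ : ∃ w : G, w ∈ C ∧ w ∈ C' ∧ w ≠ 1 := by
    by_contra hall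
    push Not at hall
    let f : C × C' → A := fun a => ⟨(a.1 : G) * a.2, A.mul_mem (hCA a.1.2) (hC'le a.2.2)⟩
    have hf : Function.Injective f := by
      rintro ⟨a, b⟩ ⟨a', b'⟩ he
      have he' : (a : G) * b = a' * b' := congrArg Subtype.val he
      have h1 : (a' : G)⁻¹ * a = b' * (b : G)⁻¹ := by
        rw [eq_mul_inv_iff_mul_eq, mul_assoc, he', inv_mul_cancel_left]
      have h2 := hall _ (C.mul_mem (C.inv_mem a'.2) a.2)
        (h1 ▸ C'.mul_mem b'.2 (C'.inv_mem b.2))
      have ha : a = a' := Subtype.ext (inv_mul_eq_one.1 h2).symm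
      subst ha
      exact Prod.ext rfl (Subtype.ext (mul_left_cancel he'))
    have := Nat.card_le_card_of_injective f hf
    rw [Nat.card_prod, hcard', hcardA] at this
    have : 3 ≤ Nat.card C := by omega
    nlinarith
  have e1 : cz w = (Q : Subgroup G) := center_two hna h Q (hCQ hw)
    (fun y hy => Subgroup.mem_centralizer_iff.1 hw y hy) hw1
  have e2 : cz w = (Q' : Subgroup G) := by
    refine center_two hna h Q' ?_ (hC'Q' w hw') hw1
    rw [← hcv]; exact (hC'le hw').2
  refine hvnc (Subgroup.mem_centralizer_iff.2 fun y hy => (hv' y ?_).1)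
  rw [← e2, e1]
  exact hy

theorem cent_eq_sup {r : ℕ} [hr' : Fact r.Prime] (hr : r ≠ 2) (hrG : r ∣ Nat.card G) (R : Sylow r G) :
    ∃ E : Subgroup G, IsPGroup 2 E ∧
      (R : Subgroup G) ⊔ E = Subgroup.centralizer ((R : Subgroup G) : Set G) := by
  haveI := Fact.mk Nat.prime_two
  set C := Subgroup.centralizer ((R : Subgroup G) : Set G) with hC
  let W : Sylow 2 C := default
  have hR := comm_odd hna h hr hrG R
  have hRC : (R : Subgroup G) ≤ C := fun x hx => Subgroup.mem_centralizer_iff.2 fun y hy =>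
    congrArg Subtype.val (hR.is_comm.comm ⟨y, hy⟩ ⟨x, hx⟩)
  refine ⟨(W : Subgroup C).map C.subtype, W.2.map _, le_antisymm
    (sup_le hRC (Subgroup.map_subtype_le _)) ?_⟩
  set K := (R : Subgroup G) ⊔ (W : Subgroup C).map C.subtype with hK
  have h1 : K.relIndex C ∣ (R : Subgroup G).relIndex C :=
    Subgroup.relIndex_dvd_of_le_left _ le_sup_left
  have h2 : K.relIndex C ∣ (W : Subgroup C).index := by
    have := Subgroup.relIndex_dvd_of_le_left C (le_sup_right :
      (W : Subgroup C).map C.subtype ≤ K)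
    have e : ((W : Subgroup C).map C.subtype).subgroupOf C = (W : Subgroup C) :=
      Subgroup.comap_map_eq_self_of_injective C.subtype_injective _
    exact this.trans (dvd_of_eq (congrArg Subgroup.index e))
  refine Subgroup.relIndex_eq_one.1 ?_
  by_contra hne
  obtain ⟨d, hd, hdd⟩ := Nat.exists_prime_and_dvd hne
  rcases primes_cent hna h hrG R hd (hdd.trans (Subgroup.relIndex_dvd_card _ _)) with rfl | rfl
  · exact R.not_dvd_index (hdd.trans (h1.trans (Subgroup.relIndex_dvd_index_of_le hRC)))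
  · exact W.not_dvd_index (hdd.trans h2)

omit hna h [IsSimpleGroup G] in
/-- conjugates of a proper subgroup of a finite `p`-group do not cover it -/
theorem eq_top_of_cover {p : ℕ} [Fact p.Prime] {W : Type*} [Group W] [Finite W] (hW : IsPGroup p W)
    (D : Subgroup W) (hcov : ∀ y : W, ∃ w : W, w⁻¹ * y * w ∈ D) : D = ⊤ := by
  rcases eq_top_or_exists_le_coatom D with hD | ⟨M, hM, hDM⟩
  · exact hD
  exfalso
  haveI := hW.isNilpotent
  haveI : M.Normal := Subgroup.NormalizerCondition.normal_of_coatom _ Group.normalizerCondition_of_isNilpotent hM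
  refine hM.1 (eq_top_iff.2 fun y _ => ?_)
  obtain ⟨w, hw⟩ := hcov y
  have h' := (inferInstance : M.Normal).conj_mem _ (hDM hw) w
  rwa [show w * (w⁻¹ * y * w) * w⁻¹ = y from by group] at h'

omit hna h [IsSimpleGroup G] in
/-- a finite group with only two prime divisors is the product of two Sylow subgroups -/
theorem exists_mul {X : Type*} [Group X] [Finite X] {a b : ℕ} [ha : Fact a.Prime] [hb : Fact b.Prime]
    (hab : a ≠ b) (A : Sylow a X) (B : Sylow b X)
    (hp : ∀ d : ℕ, d.Prime → d ∣ Nat.card X → d = a ∨ d = b) (x : X) :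
    ∃ u ∈ (A : Subgroup X), ∃ v ∈ (B : Subgroup X), u * v = x := by
  have hco : (Nat.card (A : Subgroup X)).Coprime (Nat.card (B : Subgroup X)) := by
    rw [A.card_eq_multiplicity, B.card_eq_multiplicity]
    exact Nat.Coprime.pow _ _ ((Nat.coprime_primes ha.out hb.out).2 hab)
  have hcard : Nat.card (A : Subgroup X) * Nat.card (B : Subgroup X) = Nat.card X := by
    obtain ⟨M, hM⟩ := hco.mul_dvd_of_dvd_of_dvd (Subgroup.card_subgroup_dvd_card _)
      (Subgroup.card_subgroup_dvd_card _)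
    rcases eq_or_ne M 1 with rfl | hne
    · rw [hM, mul_one]
    obtain ⟨d, hd, c, rfl⟩ := Nat.exists_prime_and_dvd hne
    exfalso
    have hAi := (A : Subgroup X).card_mul_index
    have hBi := (B : Subgroup X).card_mul_index
    rcases hp d hd ⟨Nat.card (A : Subgroup X) * Nat.card (B : Subgroup X) * c, by rw [hM]; ring⟩ with
      rfl | rfl
    · exact A.not_dvd_index ⟨Nat.card (B : Subgroup X) * c,
        Nat.eq_of_mul_eq_mul_left Nat.card_pos (hAi.trans (hM.trans (by ring)))⟩
    · exact B.not_dvd_index ⟨Nat.card (A : Subgroup X) * c,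
        Nat.eq_of_mul_eq_mul_left Nat.card_pos (hBi.trans (hM.trans (by ring)))⟩
  have hcomp := Subgroup.isComplement'_of_coprime hcard hco
  obtain ⟨⟨u, v⟩, huv⟩ := ((Subgroup.isComplement_iff_bijective _ _).1 hcomp).2 x
  exact ⟨u, u.2, v, v.2, huv⟩

theorem cent_elem' {r : ℕ} [hr' : Fact r.Prime] (hr : r ≠ 2) (hrG : r ∣ Nat.card G) (R : Sylow r G)
    {u : G} (hu : u ∈ (R : Subgroup G)) (hu1 : u ≠ 1) :
    cz u = Subgroup.centralizer ((R : Subgroup G) : Set G) := by
  haveI := Fact.mk Nat.prime_two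
  have hR := comm_odd hna h hr hrG R
  set X := cz u with hX
  have hCX : Subgroup.centralizer ((R : Subgroup G) : Set G) ≤ X := fun c hc =>
    mem_cz.2 (Subgroup.mem_centralizer_iff.1 hc u hu).symm
  have hRX : (R : Subgroup G) ≤ X := fun x hx =>
    mem_cz.2 (congrArg Subtype.val (hR.is_comm.comm ⟨x, hx⟩ ⟨u, hu⟩))
  have hru : ¬ r ∣ X.index := fun hd => R.not_dvd_index (hd.trans (Subgroup.index_dvd_of_le hRX))
  obtain ⟨k, hk⟩ := (IsPGroup.iff_orderOf.1 R.2) ⟨u, hu⟩
  rw [← Subgroup.orderOf_coe] at hk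
  -- an element of order prime to `r` commuting with `u` centralises a Sylow subgroup inside `X`
  have keyA : ∀ y : G, y ∈ X → (orderOf u).Coprime (orderOf y) →
      ∃ R' : Sylow r G, (R' : Subgroup G) ≤ X ∧
        y ∈ Subgroup.centralizer ((R' : Subgroup G) : Set G) := by
    intro y hy hco
    have hcom : Commute u y := (mem_cz.1 hy).symm
    obtain ⟨p, hp, hpG, hpi⟩ := exists_type hna h (mul_ne_one hco hu1 : u * y ≠ 1)
    have hle := cz_mul_le hcom hco
    have hpr : p = r := uniq hna h hu1 hp hr'.out hpG hrG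
      (fun hd => hpi (hd.trans (Subgroup.index_dvd_of_le (hle.trans inf_le_left)))) hru
    subst hpr
    obtain ⟨R', hR'⟩ := exists_sylow_le hpi
    exact ⟨R', hR'.trans (hle.trans inf_le_left),
      mem_centralizer_of_le (hR'.trans (hle.trans inf_le_right))⟩
  have hprimes : ∀ d : ℕ, d.Prime → d ∣ Nat.card X → d = r ∨ d = 2 := by
    intro d hd hdX
    by_contra hne
    push Not at hne
    haveI := Fact.mk hd
    obtain ⟨y, hy⟩ := exists_prime_orderOf_dvd_card' d hdX
    have hyo : orderOf (y : G) = d := by rw [Subgroup.orderOf_coe, hy]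
    obtain ⟨R', -, hyR⟩ := keyA y y.2 (by
      rw [hk, hyo]
      exact Nat.Coprime.pow_left _ ((Nat.coprime_primes hr'.out hd).2 (Ne.symm hne.1)))
    have hdvd : d ∣ Nat.card (Subgroup.centralizer ((R' : Subgroup G) : Set G)) := by
      rw [← hyo, ← Subgroup.orderOf_mk (y : G) hyR]
      exact orderOf_dvd_natCard _
    rcases primes_cent hna h hrG R' hd hdvd with h' | h'
    · exact hne.1 h'
    · exact hne.2 h'
  let RX : Sylow r X := R.subtype hRX
  let W : Sylow 2 X := default
  set CX : Subgroup X := Subgroup.centralizer ((RX : Subgroup X) : Set X) with hCXd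
  -- every 2-element of `X` centralises some Sylow subgroup of `X`
  have keyB : ∀ y : X, y ∈ (W : Subgroup X) → ∃ g : X, g⁻¹ * y * g ∈ CX := by
    intro y hy
    obtain ⟨j, hj⟩ := (IsPGroup.iff_orderOf.1 W.2) ⟨y, hy⟩
    rw [← Subgroup.orderOf_coe] at hj
    obtain ⟨R', hR'X, hyR⟩ := keyA (y : G) y.2 (by
      rw [hk, Subgroup.orderOf_coe, hj]
      exact Nat.Coprime.pow _ _ ((Nat.coprime_primes hr'.out Nat.prime_two).2 hr))
    obtain ⟨g, hg⟩ := MulAction.exists_smul_eq X RX (R'.subtype hR'X)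
    refine ⟨g, Subgroup.mem_centralizer_iff.2 fun a ha => ?_⟩
    have h1 : g * a * g⁻¹ ∈ ((R'.subtype hR'X : Sylow r X) : Subgroup X) := hg ▸ mem_smul' RX g ha
    rw [Sylow.coe_subtype, Subgroup.mem_subgroupOf] at h1
    have h2 : (g * a * g⁻¹) * y = y * (g * a * g⁻¹) :=
      Subtype.ext (Subgroup.mem_centralizer_iff.1 hyR _ h1)
    calc a * (g⁻¹ * y * g) = g⁻¹ * ((g * a * g⁻¹) * y) * g := by group
      _ = g⁻¹ * (y * (g * a * g⁻¹)) * g := by rw [h2]
      _ = g⁻¹ * y * g * a := by group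
  -- so the Sylow 2-subgroup is normal in `X`
  have hWn : ∀ y ∈ (W : Subgroup X), ∀ x : X, x * y * x⁻¹ ∈ (W : Subgroup X) := by
    intro y hy x
    obtain ⟨g, hg⟩ := keyB y hy
    obtain ⟨b, hb, a, ha, hba⟩ := exists_mul (Ne.symm hr) W (g • RX)
      (fun d hd hdd => (hprimes d hd hdd).symm) x
    have hay : a * y = y * a := by
      rw [Sylow.smul_def, Sylow.pointwise_smul_def,
        Subgroup.mem_pointwise_smul_iff_inv_smul_mem] at ha
      have h1 : g⁻¹ * a * g ∈ (RX : Subgroup X) := by simpa using ha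
      have h2 := Subgroup.mem_centralizer_iff.1 hg _ h1
      calc a * y = g * ((g⁻¹ * a * g) * (g⁻¹ * y * g)) * g⁻¹ := by group
        _ = g * ((g⁻¹ * y * g) * (g⁻¹ * a * g)) * g⁻¹ := by rw [h2]
        _ = y * a := by group
    rw [← hba, show b * a * y * (b * a)⁻¹ = b * (a * y) * a⁻¹ * b⁻¹ from by group, hay,
      show b * (y * a) * a⁻¹ * b⁻¹ = b * y * b⁻¹ from by group]
    exact Subgroup.mul_mem _ (Subgroup.mul_mem _ hb hy) (Subgroup.inv_mem _ hb)
  have hWC : (W : Subgroup X) ≤ CX := by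
    refine Subgroup.subgroupOf_eq_top.1 (eq_top_of_cover W.2 _ fun y => ?_)
    obtain ⟨g, hg⟩ := keyB y y.2
    obtain ⟨w, hw, a, ha, hwa⟩ := exists_mul (Ne.symm hr) W RX
      (fun d hd hdd => (hprimes d hd hdd).symm) g
    refine ⟨⟨w, hw⟩, Subgroup.mem_subgroupOf.2 ?_⟩
    simp only [Subgroup.coe_mul, Subgroup.coe_inv]
    have h1 : w⁻¹ * (y : X) * w = a * (g⁻¹ * (y : X) * g) * a⁻¹ := by rw [← hwa]; group
    rw [h1]
    exact conj_mem_centralizer (Subgroup.le_normalizer ha) hg
  refine le_antisymm (fun x hx => ?_) hCX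
  obtain ⟨b, hb, a, ha, hba⟩ := exists_mul (Ne.symm hr) W RX
    (fun d hd hdd => (hprimes d hd hdd).symm) ⟨x, hx⟩
  have hbG : (b : G) ∈ Subgroup.centralizer ((R : Subgroup G) : Set G) :=
    Subgroup.mem_centralizer_iff.2 fun c hc => congrArg Subtype.val
      (Subgroup.mem_centralizer_iff.1 (hWC hb) ⟨c, hRX hc⟩
        (by rw [SetLike.mem_coe, Sylow.coe_subtype, Subgroup.mem_subgroupOf]; exact hc))
  rw [Sylow.coe_subtype, Subgroup.mem_subgroupOf] at ha
  have haG : (a : G) ∈ Subgroup.centralizer ((R : Subgroup G) : Set G) :=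
    Subgroup.mem_centralizer_iff.2 fun c hc =>
      congrArg Subtype.val (hR.is_comm.comm ⟨c, hc⟩ ⟨a, ha⟩)
  have hx' : x = (b : G) * a := (congrArg Subtype.val hba).symm
  rw [hx']
  exact Subgroup.mul_mem _ hbG haG

theorem cent_bot' {r : ℕ} [hr' : Fact r.Prime] (hr : r ≠ 2) (hrG : r ∣ Nat.card G) (R : Sylow r G)
    (Q : Sylow 2 G) (hQ : IsMulCommutative (Q : Subgroup G)) :
    Subgroup.centralizer ((R : Subgroup G) : Set G) = (R : Subgroup G) := by
  haveI := Fact.mk Nat.prime_two
  have hR := comm_odd hna h hr hrG R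
  refine R.3 (isPGroup_of_primes fun d hd hdc => ?_) fun x hx =>
    Subgroup.mem_centralizer_iff.2 fun y hy =>
      congrArg Subtype.val (hR.is_comm.comm ⟨y, hy⟩ ⟨x, hx⟩)
  rcases primes_cent hna h hrG R hd hdc with rfl | rfl
  · rfl
  exfalso
  obtain ⟨y, hy⟩ := exists_prime_orderOf_dvd_card' 2 hdc
  have hyo : orderOf (y : G) = 2 := by rw [Subgroup.orderOf_coe, hy]
  have hy1 : (y : G) ≠ 1 := fun he => by rw [he, orderOf_one] at hyo; norm_num at hyo
  exact hr (uniq hna h hy1 hr'.out Nat.prime_two hrG (two_dvd hna h)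
    (fun hh => R.not_dvd_index (hh.trans (Subgroup.index_dvd_of_le (le_cz y.2))))
    (not_dvd_index_of_mem Q hQ (isPGroup_zpowers_of_orderOf (k := 1) (by rw [hyo, pow_one]))))

/-- with an abelian Sylow 2-subgroup every Sylow subgroup is a TI centraliser -/
theorem ti {p : ℕ} [hp' : Fact p.Prime] (hpG : p ∣ Nat.card G) (P : Sylow p G)
    (Q : Sylow 2 G) (hQ : IsMulCommutative (Q : Subgroup G)) :
    Subgroup.centralizer ((P : Subgroup G) : Set G) = (P : Subgroup G) ∧
      ∀ y ∈ (P : Subgroup G), y ≠ 1 → cz y = (P : Subgroup G) := by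
  by_cases hp : p = 2
  · subst hp
    have hP := comm_of_comm Q hQ P
    have hc : ∀ y ∈ (P : Subgroup G), ∀ x ∈ (P : Subgroup G), x * y = y * x := fun y hy x hx =>
      congrArg Subtype.val (hP.is_comm.comm ⟨x, hx⟩ ⟨y, hy⟩)
    exact ⟨le_antisymm (cent_two_le hna h P) fun y hy =>
      Subgroup.mem_centralizer_iff.2 fun x hx => hc y hy x hx,
      fun y hy hy1 => center_two hna h P hy (hc y hy) hy1⟩
  · exact ⟨cent_bot' hna h hp hpG P Q hQ, fun y hy hy1 =>
      (cent_elem' hna h hp hpG P hy hy1).trans (cent_bot' hna h hp hpG P Q hQ)⟩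

theorem dvd_pred {p : ℕ} [hp' : Fact p.Prime] (hpG : p ∣ Nat.card G) (P : Sylow p G)
    (Q : Sylow 2 G) (hQ : IsMulCommutative (Q : Subgroup G)) :
    autOrder (P : Subgroup G) ∣ Nat.card (P : Subgroup G) - 1 := by
  obtain ⟨hC, hTI⟩ := ti hna h hpG P Q hQ
  set f := (P : Subgroup G).normalizerMonoidHom with hf
  have hker : f.ker = (Subgroup.centralizer ((P : Subgroup G) : Set G)).subgroupOf
      (Subgroup.normalizer ((P : Subgroup G) : Set G)) := Subgroup.normalizerMonoidHom_ker _
  have he : autOrder (P : Subgroup G) = Nat.card f.range := by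
    rw [← Subgroup.index_ker, hker]; rfl
  let S : SubMulAction f.range (P : Subgroup G) :=
    { carrier := {x | x ≠ 1}
      smul_mem' := fun c x hx he => hx ((smul_eq_iff_eq_inv_smul c).1 he |>.trans (smul_one _)) }
  have hfree : ∀ b : S, MulAction.stabilizer f.range b = ⊥ := by
    intro b
    refine (Subgroup.eq_bot_iff_forall _).2 ?_
    rintro ⟨σ, n, rfl⟩ hs
    have hs' : f n b.1 = b.1 := congrArg Subtype.val (MulAction.mem_stabilizer_iff.1 hs)
    have hb1 : ((b.1 : (P : Subgroup G)) : G) ≠ 1 := fun he => b.2 (Subtype.ext he)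
    have hn : (n : G) ∈ cz ((b.1 : (P : Subgroup G)) : G) := by
      have h1 : (n : G) * (b.1 : G) * (n : G)⁻¹ = (b.1 : G) := congrArg Subtype.val hs'
      exact mem_cz.2 (mul_inv_eq_iff_eq_mul.1 h1)
    have hk : n ∈ f.ker := by
      rw [hker, Subgroup.mem_subgroupOf]
      exact hC.ge ((hTI _ b.1.2 hb1).le hn)
    exact Subtype.ext (MonoidHom.mem_ker.1 hk)
  have hS : Nat.card S = Nat.card (P : Subgroup G) - 1 := card_ne_one' _
  rw [he, ← hS, Nat.card_congr (MulAction.selfEquivOrbitsQuotientProd hfree), Nat.card_prod]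
  exact dvd_mul_left _ _

theorem exact_count' {r t : ℕ} [hr' : Fact r.Prime] [ht' : Fact t.Prime]
    (hπ : (Nat.card G).primeFactors = {2, r, t}) (hr : r ≠ 2) (ht : t ≠ 2) (hrt : r ≠ t)
    (Q : Sylow 2 G) (R : Sylow r G) (T : Sylow t G) (hQ : IsMulCommutative (Q : Subgroup G)) :
    1 - 1 / (Nat.card G : ℚ) =
      (1 - 1 / (Nat.card (Q : Subgroup G) : ℚ)) / (autOrder (Q : Subgroup G) : ℚ) +
      (1 - 1 / (Nat.card (R : Subgroup G) : ℚ)) / (autOrder (R : Subgroup G) : ℚ) +
      (1 - 1 / (Nat.card (T : Subgroup G) : ℚ)) / (autOrder (T : Subgroup G) : ℚ) := by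
  haveI := Fact.mk Nat.prime_two
  have hn1 : 1 ≤ Nat.card G := Nat.card_pos
  have key : ∀ (p : ℕ) [Fact p.Prime] (P : Sylow p G), p ∣ Nat.card G →
      ((good p G).ncard : ℚ) = (Nat.card G : ℚ) *
        ((1 - 1 / (Nat.card (P : Subgroup G) : ℚ)) / (autOrder (P : Subgroup G) : ℚ)) := by
    intro p _ P hpG
    obtain ⟨hC, hTI⟩ := ti hna h hpG P Q hQ
    have hgd := card_good_eq P hC hTI
    have hm := index_mul_eq (P : Subgroup G)
    rw [hC] at hm
    have hP0 : (Nat.card (P : Subgroup G) : ℚ) ≠ 0 := Nat.cast_ne_zero.2 Nat.card_pos.ne'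
    have he0 : (autOrder (P : Subgroup G) : ℚ) ≠ 0 := Nat.cast_ne_zero.2 (autOrder_ne_zero _)
    rw [hgd, ← hm, Nat.cast_mul, Nat.cast_mul, Nat.cast_mul, Nat.cast_sub Nat.card_pos]
    field_simp
    simp
  have hmem : ∀ p : ℕ, p ∈ ({2, r, t} : Finset ℕ) → p ∣ Nat.card G := fun p hp =>
    Nat.dvd_of_mem_primeFactors (hπ.symm ▸ hp)
  have a := key 2 Q (hmem 2 (by simp))
  have b := key r R (hmem r (by simp))
  have c := key t T (hmem t (by simp))
  have hs : (Nat.card G : ℚ) - 1 = (good 2 G).ncard + (good r G).ncard + (good t G).ncard := by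
    have hs' := sum_three hna h hπ hr ht hrt
    rw [← Nat.cast_one, ← Nat.cast_sub hn1]
    exact_mod_cast hs'
  rw [a, b, c] at hs
  have hn0 : (Nat.card G : ℚ) ≠ 0 := Nat.cast_ne_zero.2 Nat.card_pos.ne'
  apply mul_left_cancel₀ hn0
  rw [mul_sub, mul_one, mul_one_div, div_self hn0, mul_add, mul_add]
  exact hs

theorem autOrder_two' (Q : Sylow 2 G) :
    (IsMulCommutative (Q : Subgroup G) ∧ Odd (autOrder (Q : Subgroup G)) ∧
      3 ≤ autOrder (Q : Subgroup G)) ∨
    (¬ IsMulCommutative (Q : Subgroup G) ∧ 4 ∣ autOrder (Q : Subgroup G) ∧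
      autOrder (Q : Subgroup G) ≠ 4 ∧ Nat.card (Q : Subgroup G) ≠ 8) := by
  haveI := Fact.mk Nat.prime_two
  by_cases hQ : IsMulCommutative (Q : Subgroup G)
  · exact Or.inl ⟨hQ, odd_autOrder_of_comm hna Q hQ, three_le_autOrder_two hna h Q⟩
  · exact Or.inr ⟨hQ, by simpa using (sq_dvd_center_index Q hQ).trans (dvd_autOrder Q),
      not_four hna h Q hQ, not_eight hna h Q hQ⟩

end Simple

end Loc

variable {G : Type u} [Group G] [Finite G] [IsSimpleGroup G]
  (hna : ¬ IsMulCommutative G) (h : ClassTwo G)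

include hna h

theorem exists_primes : ∃ r t : ℕ, r.Prime ∧ t.Prime ∧ r ≠ 2 ∧ t ≠ 2 ∧ r ≠ t ∧
    (Nat.card G).primeFactors = {2, r, t} :=
  Loc.exists_primes' hna h

theorem two_le_autOrder {p : ℕ} [Fact p.Prime] (hp : p ∣ Nat.card G) (P : Sylow p G) :
    2 ≤ autOrder (P : Subgroup G) :=
  Loc.two_le hna hp P

theorem one_lt_sum {r t : ℕ} [Fact r.Prime] [Fact t.Prime]
    (hπ : (Nat.card G).primeFactors = {2, r, t}) (hr : r ≠ 2) (ht : t ≠ 2) (hrt : r ≠ t)
    (Q : Sylow 2 G) (R : Sylow r G) (T : Sylow t G) :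
    (1 : ℚ) < 1 / (autOrder (Q : Subgroup G) : ℚ) + 1 / (autOrder (R : Subgroup G) : ℚ) +
      1 / (autOrder (T : Subgroup G) : ℚ) :=
  Loc.one_lt_sum' hna h hπ hr ht hrt Q R T

theorem exists_oddData {r : ℕ} [Fact r.Prime] (hr : r ≠ 2) (hrG : r ∣ Nat.card G) (R : Sylow r G) :
    ∃ E : Subgroup G, OddData G r R E := by
  obtain ⟨E, hE, hsup⟩ := Loc.cent_eq_sup hna h hr hrG R
  exact ⟨E, ⟨Fact.out, hr, Loc.comm_odd hna h hr hrG R, hE, hsup, fun u hu hu1 =>
    Loc.cent_elem' hna h hr hrG R hu hu1⟩⟩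

theorem cent_bot_of_comm {r : ℕ} [Fact r.Prime] (hr : r ≠ 2) (hrG : r ∣ Nat.card G) (R : Sylow r G)
    (Q : Sylow 2 G) (hQ : IsMulCommutative (Q : Subgroup G)) :
    Subgroup.centralizer ((R : Subgroup G) : Set G) = (R : Subgroup G) :=
  Loc.cent_bot' hna h hr hrG R Q hQ

theorem cent_center_two (Q : Sylow 2 G) {z : G} (hz : z ∈ (Q : Subgroup G))
    (hzc : ∀ y ∈ (Q : Subgroup G), y * z = z * y) (hz1 : z ≠ 1) :
    Subgroup.centralizer ({z} : Set G) = (Q : Subgroup G) :=
  Loc.center_two hna h Q hz hzc hz1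

theorem autOrder_two (Q : Sylow 2 G) :
    (IsMulCommutative (Q : Subgroup G) ∧ Odd (autOrder (Q : Subgroup G)) ∧
      3 ≤ autOrder (Q : Subgroup G)) ∨
    (¬ IsMulCommutative (Q : Subgroup G) ∧ 4 ∣ autOrder (Q : Subgroup G) ∧
      autOrder (Q : Subgroup G) ≠ 4 ∧ Nat.card (Q : Subgroup G) ≠ 8) :=
  Loc.autOrder_two' hna h Q

theorem autOrder_dvd_pred {p : ℕ} [Fact p.Prime] (hpG : p ∣ Nat.card G) (P : Sylow p G)
    (Q : Sylow 2 G) (hQ : IsMulCommutative (Q : Subgroup G)) :
    autOrder (P : Subgroup G) ∣ Nat.card (P : Subgroup G) - 1 :=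
  Loc.dvd_pred hna h hpG P Q hQ

theorem exact_count {r t : ℕ} [Fact r.Prime] [Fact t.Prime]
    (hπ : (Nat.card G).primeFactors = {2, r, t}) (hr : r ≠ 2) (ht : t ≠ 2) (hrt : r ≠ t)
    (Q : Sylow 2 G) (R : Sylow r G) (T : Sylow t G) (hQ : IsMulCommutative (Q : Subgroup G)) :
    1 - 1 / (Nat.card G : ℚ) =
      (1 - 1 / (Nat.card (Q : Subgroup G) : ℚ)) / (autOrder (Q : Subgroup G) : ℚ) +
      (1 - 1 / (Nat.card (R : Subgroup G) : ℚ)) / (autOrder (R : Subgroup G) : ℚ) +
      (1 - 1 / (Nat.card (T : Subgroup G) : ℚ)) / (autOrder (T : Subgroup G) : ℚ) :=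
  Loc.exact_count' hna h hπ hr ht hrt Q R T hQ

end H72.TwoPrime
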