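import Cfsg.Agent.H72.TwoPrime.Exc
import Cfsg.Agent.H72.TwoPrime.Local

/-!
A nonabelian simple group whose class sizes have at most two prime divisors has order 60 or 504.
-/

set_option autoImplicit false
set_option linter.unusedSectionVars false
set_option linter.style.haveILetI false

namespace H72.TwoPrime

universe u

theorem two_pow_three_pow {x y : ℕ} (hx : 0 < x) (hy : 0 < y)
    (h : 3 ^ y = 2 ^ x + 1 ∨ 2 ^ x = 3 ^ y + 1) :
    (x = 1 ∧ y = 1) ∨ (x = 2 ∧ y = 1) ∨ (x = 3 ∧ y = 2) := by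
  have hmod : ∀ y : ℕ, 3 ^ y % 8 = 1 ∨ 3 ^ y % 8 = 3 := by
    intro y
    induction y with
    | zero => simp
    | succ n ih => rw [pow_succ]; omega
  rcases h with h | h
  · rcases Nat.even_or_odd y with ⟨m, hm⟩ | ⟨m, hm⟩
    · have hm0 : 0 < m := by omega
      set A := 3 ^ m with hA
      have hA3 : 3 ≤ A := hA ▸ Nat.le_self_pow hm0.ne' 3
      have hsq : (A - 1) * (A + 1) = 2 ^ x := by
        obtain ⟨B, hB⟩ : ∃ B, A = B + 1 := ⟨A - 1, by omega⟩
        have h2 : A * A = 2 ^ x + 1 := by rw [hA, ← pow_add, ← hm]; exact h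
        rw [hB] at h2 ⊢
        simp only [Nat.add_sub_cancel]
        nlinarith
      obtain ⟨i, -, hi⟩ := (Nat.dvd_prime_pow Nat.prime_two).1 (Dvd.intro _ hsq : (A - 1) ∣ 2 ^ x)
      obtain ⟨j, -, hj⟩ := (Nat.dvd_prime_pow Nat.prime_two).1
        (Dvd.intro_left _ hsq : (A + 1) ∣ 2 ^ x)
      have hi1 : i = 1 := by
        rcases Nat.lt_or_ge i 2 with hlt | hge
        · rcases Nat.eq_zero_or_pos i with rfl | hpos
          · rw [pow_zero] at hi; omega
          · omega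
        · exfalso
          obtain ⟨i', rfl⟩ := Nat.exists_eq_add_of_le hge
          have hj2 : 2 ≤ j := by
            by_contra hlt
            interval_cases j <;> omega
          obtain ⟨j', rfl⟩ := Nat.exists_eq_add_of_le hj2
          rw [pow_add] at hi hj
          omega
      subst hi1
      have hA' : A = 3 := by omega
      have hm1 : m = 1 := Nat.pow_right_injective (le_refl 2 |>.trans (by norm_num : 2 ≤ 3))
        (show 3 ^ m = 3 ^ 1 by rw [← hA, hA', pow_one])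
      right; right
      refine ⟨?_, by omega⟩
      rw [hA'] at hsq
      exact Nat.pow_right_injective (le_refl 2) (show 2 ^ x = 2 ^ 3 by omega)
    · have h9 : 3 ^ y % 8 = 3 := by
        rw [hm, pow_succ, pow_mul, Nat.mul_mod, Nat.pow_mod]
        norm_num
      have hx1 : x = 1 := by
        by_contra hne
        rcases Nat.lt_or_ge x 3 with hlt | hge
        · have : x = 2 := by omega
          subst this
          omega
        · obtain ⟨x', rfl⟩ := Nat.exists_eq_add_of_le hge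
          rw [pow_add] at h
          omega
      subst hx1
      left
      exact ⟨rfl, Nat.pow_right_injective (by norm_num : 2 ≤ 3) (show 3 ^ y = 3 ^ 1 by omega)⟩
  · have hx2 : x ≤ 2 := by
      by_contra hlt
      obtain ⟨x', rfl⟩ := Nat.exists_eq_add_of_le (show 3 ≤ x by omega)
      have := hmod y
      rw [pow_add] at h
      omega
    have h3 : 3 ≤ 3 ^ y := Nat.le_self_pow hy.ne' 3
    interval_cases x
    · omega
    · right; left
      exact ⟨rfl, Nat.pow_right_injective (by norm_num : 2 ≤ 3) (show 3 ^ y = 3 ^ 1 by omega)⟩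

theorem two_pow_mod {x : ℕ} (h : 2 ^ x % 5 = 1) : 2 ^ x % 3 = 1 := by
  have : ∀ n : ℕ, 2 ^ n % 15 = 1 ∨ 2 ^ n % 15 = 2 ∨ 2 ^ n % 15 = 4 ∨ 2 ^ n % 15 = 8 := by
    intro n
    induction n with
    | zero => simp
    | succ n ih => rw [pow_succ]; omega
  have := this x
  omega

theorem sylow_ge {G : Type u} [Group G] [Finite G] {p : ℕ} [hp : Fact p.Prime]
    (hpG : p ∣ Nat.card G) (P : Sylow p G) : p ≤ Nat.card (P : Subgroup G) :=
  Nat.le_of_dvd Nat.card_pos (P.dvd_card_of_dvd_card hpG)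

theorem not_dvd_sylow {G : Type u} [Group G] [Finite G] {p q : ℕ} [hp : Fact p.Prime]
    (hq : q.Prime) (hne : q ≠ p) (P : Sylow p G) : ¬ q ∣ Nat.card (P : Subgroup G) := by
  intro h
  obtain ⟨n, hn⟩ := IsPGroup.iff_card.1 P.2
  rw [hn] at h
  exact hne ((Nat.prime_dvd_prime_iff_eq hq hp.out).1 (hq.dvd_of_dvd_pow h))

variable {G : Type u} [Group G] [Finite G] [IsSimpleGroup G]

theorem exists_involution (hna : ¬ IsMulCommutative G) (h : ClassTwo G) (Q : Sylow 2 G) :
    ∃ z : G, orderOf z = 2 ∧ Subgroup.centralizer ({z} : Set G) = (Q : Subgroup G) := by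
  haveI : Fact (Nat.Prime 2) := ⟨Nat.prime_two⟩
  obtain ⟨r, t, -, -, -, -, -, hπ⟩ := exists_primes hna h
  have h2 : 2 ∣ Nat.card G :=
    Nat.dvd_of_mem_primeFactors (by rw [hπ]; simp)
  haveI : Nontrivial (Q : Subgroup G) := by
    rw [← Finite.one_lt_card_iff_nontrivial]
    exact lt_of_lt_of_le one_lt_two (sylow_ge h2 Q)
  haveI := Q.2.center_nontrivial
  have hd : 2 ∣ Nat.card (Subgroup.center (Q : Subgroup G)) := by
    obtain ⟨n, hn⟩ := IsPGroup.iff_card.1 (Q.2.to_subgroup (Subgroup.center (Q : Subgroup G)))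
    rw [hn]
    refine dvd_pow_self 2 fun h0 => ?_
    have := Finite.one_lt_card (α := Subgroup.center (Q : Subgroup G))
    rw [hn, h0, pow_zero] at this
    omega
  obtain ⟨z, hz⟩ := exists_prime_orderOf_dvd_card' (G := Subgroup.center (Q : Subgroup G)) 2 hd
  have ho : orderOf ((z : (Q : Subgroup G)) : G) = 2 := by
    rw [Subgroup.orderOf_coe, Subgroup.orderOf_coe, hz]
  refine ⟨_, ho, cent_center_two hna h Q z.1.2 (fun y hy => ?_) fun h1 => ?_⟩
  · exact congrArg Subtype.val (Subgroup.mem_center_iff.1 z.2 ⟨y, hy⟩)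
  · rw [h1, orderOf_one] at ho
    omega

theorem eq_bot_of_comm (hna : ¬ IsMulCommutative G) (h : ClassTwo G) {r : ℕ} [Fact r.Prime]
    (hr : r ≠ 2) (hrG : r ∣ Nat.card G) {R : Sylow r G} {E : Subgroup G} (d : OddData G r R E)
    (Q : Sylow 2 G) (hQ : IsMulCommutative (Q : Subgroup G)) : E = ⊥ := by
  have h1 := d.cent_eq
  rw [cent_bot_of_comm hna h hr hrG R Q hQ, sup_eq_left] at h1
  rw [← d.inf_eq, inf_eq_right.2 h1]

/-- Both odd primes cannot be at least `5`; the bound from one side. -/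
theorem card_lt (hna : ¬ IsMulCommutative G) (h : ClassTwo G) {r t : ℕ} [hr : Fact r.Prime]
    [ht : Fact t.Prime] (hr5 : 5 ≤ r) (ht5 : 5 ≤ t) (hrt : r ≠ t)
    (hπ : (Nat.card G).primeFactors = {2, r, t}) (Q : Sylow 2 G) (R : Sylow r G) (T : Sylow t G)
    (he : autOrder (R : Subgroup G) = 2) :
    Nat.card (R : Subgroup G) < Nat.card (T : Subgroup G) := by
  haveI : Fact (Nat.Prime 2) := ⟨Nat.prime_two⟩
  haveI : Fact (Nat.Prime 3) := ⟨Nat.prime_three⟩
  have hrG : r ∣ Nat.card G := Nat.dvd_of_mem_primeFactors (by rw [hπ]; simp)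
  obtain ⟨z, hz, hzQ⟩ := exists_involution hna h Q
  obtain ⟨E, hd⟩ := exists_oddData hna h (by omega) hrG R
  have hR5 : 5 ≤ Nat.card (R : Subgroup G) := hr5.trans (sylow_ge hrG R)
  obtain ⟨x, y, f, g, hx, hy, hfg, hdiv, htyT, -, -⟩ :=
    exceptional hna hrt (by omega) hπ hd he hR5 Q T hz hzQ
  have hT := Nat.le_of_dvd Nat.card_pos htyT
  set Rn := Nat.card (R : Subgroup G) with hRn
  refine lt_of_lt_of_le ?_ hT
  have h3R : ¬ 3 ∣ Rn := not_dvd_sylow Nat.prime_three (by omega) R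
  have h2R : ¬ 2 ∣ Rn := not_dvd_sylow Nat.prime_two (by omega) R
  have h3x : ¬ 3 ∣ 2 ^ x := fun e =>
    absurd ((Nat.prime_dvd_prime_iff_eq Nat.prime_three Nat.prime_two).1
      (Nat.prime_three.dvd_of_dvd_pow e)) (by norm_num)
  have h3y : ¬ 3 ∣ t ^ y := fun e =>
    absurd ((Nat.prime_dvd_prime_iff_eq Nat.prime_three ht.out).1
      (Nat.prime_three.dvd_of_dvd_pow e)) (by omega)
  have h2x : 2 ∣ 2 ^ x := dvd_pow_self 2 hx.ne'
  have ht1 : 5 ≤ t ^ y := ht5.trans (Nat.le_self_pow hy.ne' t)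
  have hx1 : 2 ≤ 2 ^ x := Nat.le_self_pow hx.ne' 2
  have h3dvd : ∀ m, Rn ∣ m → 3 ∣ m → 0 < m → 3 * Rn ≤ m := fun m h1 h2 h0 =>
    Nat.le_of_dvd h0 (Nat.Coprime.mul_dvd_of_dvd_of_dvd
      ((Nat.prime_three.coprime_iff_not_dvd).2 h3R) h2 h1)
  have h2dvd : ∀ m, Rn ∣ m → 2 ∣ m → 0 < m → 2 * Rn ≤ m := fun m h1 h2 h0 =>
    Nat.le_of_dvd h0 (Nat.Coprime.mul_dvd_of_dvd_of_dvd
      ((Nat.prime_two.coprime_iff_not_dvd).2 h2R) h2 h1)
  have h3x' : 2 ^ x % 3 ≠ 0 := fun e => h3x (Nat.dvd_of_mod_eq_zero e)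
  have h3y' : t ^ y % 3 ≠ 0 := fun e => h3y (Nat.dvd_of_mod_eq_zero e)
  rcases hfg with ⟨rfl, rfl⟩ | ⟨rfl, rfl⟩ <;> rcases hdiv with ⟨e, hd'⟩ | ⟨e, hd'⟩
  · have h1 : 2 ^ x % 3 = 1 ∨ 2 ^ x % 3 = 2 := by omega
    have hd3 : 3 ∣ 2 ^ x - 1 := by rcases h1 with h1 | h1 <;> omega
    have := h3dvd _ hd' hd3 (by omega); omega
  · have h1 : t ^ y % 3 = 1 ∨ t ^ y % 3 = 2 := by omega
    have hd3 : 3 ∣ 2 ^ x + 1 := by rcases h1 with h1 | h1 <;> omega
    have := h3dvd _ hd' hd3 (by omega); omega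
  · have := Nat.le_of_dvd (by omega) hd'; omega
  · have := h2dvd _ hd' (by omega) (by omega); omega

/-- The case where the Sylow subgroup for the prime `≥ 5` has automiser of order two. -/
theorem card_of_aut_two (hna : ¬ IsMulCommutative G) (h : ClassTwo G) {r : ℕ} [hr : Fact r.Prime]
    [Fact (Nat.Prime 3)] (hr5 : 5 ≤ r) (hπ : (Nat.card G).primeFactors = {2, r, 3})
    (Q : Sylow 2 G) (R : Sylow r G) (T : Sylow 3 G) (he : autOrder (R : Subgroup G) = 2) :
    Nat.card G = 60 ∨ Nat.card G = 504 := by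
  haveI : Fact (Nat.Prime 2) := ⟨Nat.prime_two⟩
  have hrG : r ∣ Nat.card G := Nat.dvd_of_mem_primeFactors (by rw [hπ]; simp)
  obtain ⟨z, hz, hzQ⟩ := exists_involution hna h Q
  obtain ⟨E, hd⟩ := exists_oddData hna h (by omega) hrG R
  have hR5 : 5 ≤ Nat.card (R : Subgroup G) := hr5.trans (sylow_ge hrG R)
  obtain ⟨x, y, f, g, hx, hy, hfg, hdiv, -, hQT, hE⟩ :=
    exceptional hna (by omega) (by omega) hπ hd he hR5 Q T hz hzQ
  have hcard := card_eq_mul (by omega) (by omega) (by omega) hπ Q R T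
  set Rn := Nat.card (R : Subgroup G) with hRn
  have hodd : ¬ 2 ∣ Rn := not_dvd_sylow Nat.prime_two (by omega) R
  have hconsec : 3 ^ y = 2 ^ x + 1 ∨ 2 ^ x = 3 ^ y + 1 := by
    rcases hfg with ⟨rfl, rfl⟩ | ⟨rfl, rfl⟩ <;> rcases hdiv with ⟨e, -⟩ | ⟨e, -⟩ <;> omega
  have small : ∀ m, Rn ∣ m → 0 < m → m ≤ 10 → Rn = m ∨ (m = 10 ∧ Rn = 5) := by
    intro m hm h0 h10
    obtain ⟨c, hc⟩ := hm
    have hc0 : 0 < c := Nat.pos_of_ne_zero fun e => by rw [e, mul_zero] at hc; omega
    have hc2 : c ≤ 2 := by nlinarith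
    interval_cases c <;> omega
  rcases two_pow_three_pow hx hy hconsec with ⟨rfl, rfl⟩ | ⟨rfl, rfl⟩ | ⟨rfl, rfl⟩ <;>
    rcases hfg with ⟨rfl, rfl⟩ | ⟨rfl, rfl⟩ <;> rcases hdiv with ⟨e, hd'⟩ | ⟨e, hd'⟩ <;>
    norm_num at e
  all_goals norm_num at hd'
  all_goals first
    | omega
    | (have := Nat.le_of_dvd (by norm_num) hd'; omega)
    | skip
  all_goals rcases small _ hd' (by norm_num) (by norm_num) with hRe | ⟨h10, hRe⟩
  all_goals first
    | omega
    | skip
  all_goals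
    obtain ⟨hQ', hT'⟩ := hQT (hE (by rw [hRe]; norm_num))
    rw [hcard, hQ', hT', hRe]
    norm_num
  -- the remaining case is order 360
  exfalso
  have hQ8 : Nat.card (Q : Subgroup G) = 8 := by rw [hQ']; norm_num
  rcases autOrder_two hna h Q with ⟨hQc, -, ha3⟩ | ⟨-, -, -, h8⟩
  · have hn : Nat.card G = 360 := by rw [hcard, hQ8, hT', hRe]; norm_num
    have ha : autOrder (Q : Subgroup G) ∣ 7 := by
      have := autOrder_dvd_pred hna h (by rw [hn]; norm_num) Q Q hQc
      rwa [hQ8] at this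
    have ha7 : autOrder (Q : Subgroup G) = 7 := by
      rcases (Nat.dvd_prime (by norm_num : Nat.Prime 7)).1 ha with e' | e' <;> omega
    have hdvd := Loc.autOrder_dvd_card (Q : Subgroup G)
    rw [ha7, hn] at hdvd
    norm_num at hdvd
  · exact h8 hQ8

/-- The case where the Sylow 3-subgroup has automiser of order two and the larger prime does not. -/
theorem card_of_aut_two_three (hna : ¬ IsMulCommutative G) (h : ClassTwo G) {r : ℕ}
    [hr : Fact r.Prime] [Fact (Nat.Prime 3)] (hr5 : 5 ≤ r)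
    (hπ : (Nat.card G).primeFactors = {2, r, 3})
    (Q : Sylow 2 G) (R : Sylow r G) (T : Sylow 3 G) (he : autOrder (T : Subgroup G) = 2)
    (hb : 3 ≤ autOrder (R : Subgroup G)) : False := by
  haveI : Fact (Nat.Prime 2) := ⟨Nat.prime_two⟩
  have hrG : r ∣ Nat.card G := Nat.dvd_of_mem_primeFactors (by rw [hπ]; simp)
  have h3G : 3 ∣ Nat.card G := Nat.dvd_of_mem_primeFactors (by rw [hπ]; simp)
  have h2G : 2 ∣ Nat.card G := Nat.dvd_of_mem_primeFactors (by rw [hπ]; simp)
  set a := autOrder (Q : Subgroup G) with ha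
  set b := autOrder (R : Subgroup G) with hbdef
  have hsum := one_lt_sum hna h hπ (by omega : r ≠ 2) (by omega : (3:ℕ) ≠ 2) (by omega : r ≠ 3) Q R T
  rw [he, ← ha, ← hbdef] at hsum
  have ha3 : 3 ≤ a := by
    rcases autOrder_two hna h Q with ⟨-, -, h3⟩ | ⟨-, h4, -, -⟩
    · exact h3
    · have : a ≠ 0 := Loc.autOrder_ne_zero _
      have := Nat.le_of_dvd (Nat.pos_of_ne_zero this) h4
      omega
  have hkey : a * b < 2 * (a + b) := by
    have ha0 : (0 : ℚ) < a := by exact_mod_cast (show 0 < a by omega)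
    have hb0 : (0 : ℚ) < b := by exact_mod_cast (show 0 < b by omega)
    push_cast at hsum
    field_simp at hsum
    have : ((a * b : ℕ) : ℚ) < ((2 * (a + b) : ℕ) : ℚ) := by
      push_cast
      nlinarith
    exact_mod_cast this
  have ha5 : a ≤ 5 := by
    by_contra hlt
    have : 6 * b ≤ a * b := Nat.mul_le_mul_right b (by omega)
    have : a * 3 ≤ a * b := Nat.mul_le_mul_left a hb
    omega
  have hb5 : b ≤ 5 := by
    by_contra hlt
    have : a * 6 ≤ a * b := Nat.mul_le_mul_left a (by omega)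
    have : 3 * b ≤ a * b := Nat.mul_le_mul_right b ha3
    omega
  obtain ⟨hQc, hodd, -⟩ : IsMulCommutative (Q : Subgroup G) ∧ Odd a ∧ 3 ≤ a := by
    rcases autOrder_two hna h Q with h' | ⟨-, h4, hne4, -⟩
    · exact h'
    · exfalso
      obtain ⟨c, hc⟩ := h4
      omega
  have hcount := exact_count hna h hπ (by omega : r ≠ 2) (by omega : (3:ℕ) ≠ 2) (by omega : r ≠ 3)
    Q R T hQc
  rw [he, ← ha, ← hbdef] at hcount
  have hdQ := autOrder_dvd_pred hna h h2G Q Q hQc
  have hdR := autOrder_dvd_pred hna h hrG R Q hQc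
  rw [← ha] at hdQ
  rw [← hbdef] at hdR
  have haG : a ∣ Nat.card G := Loc.autOrder_dvd_card _
  have hbG : b ∣ Nat.card G := Loc.autOrder_dvd_card _
  have hcard := card_eq_mul (by omega) (by omega) (by omega) hπ Q R T
  set Qn := Nat.card (Q : Subgroup G) with hQn
  set Rn := Nat.card (R : Subgroup G) with hRn
  set Tn := Nat.card (T : Subgroup G) with hTn
  have hQ2 : 2 ≤ Qn := sylow_ge h2G Q
  have hR5 : 5 ≤ Rn := hr5.trans (sylow_ge hrG R)
  have hT3 : 3 ∣ Tn := T.dvd_card_of_dvd_card h3G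
  have hTpos : 0 < Tn := Nat.card_pos
  have hR0 : (Rn : ℚ) ≠ 0 := Nat.cast_ne_zero.2 (by omega)
  have hQ0 : (Qn : ℚ) ≠ 0 := Nat.cast_ne_zero.2 (by omega)
  have hT0 : (Tn : ℚ) ≠ 0 := Nat.cast_ne_zero.2 hTpos.ne'
  rw [hcard] at hcount
  push_cast at hcount
  have hb34 : (b = 3 ∧ a = 3) ∨ (b = 3 ∧ a = 5) ∨ (b = 4 ∧ a = 3) ∨ (b = 5 ∧ a = 3) := by
    obtain ⟨c, hc⟩ := hodd
    interval_cases a <;> interval_cases b <;> omega
  by_cases hT9 : Tn = 3
  · rw [hT9] at hcount
    have hint : ∀ A B : ℤ, (A : ℚ) = B → A = B := fun A B e => by exact_mod_cast e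
    rcases hb34 with ⟨eb, ea⟩ | ⟨eb, ea⟩ | ⟨eb, ea⟩ | ⟨eb, ea⟩ <;> rw [eb, ea] at hcount <;>
      push_cast at hcount <;> field_simp at hcount
    · have : ((Qn : ℤ) : ℚ) + (Rn : ℤ) = 1 := by push_cast; linarith
      have : (Qn : ℤ) + Rn = 1 := by exact_mod_cast this
      omega
    all_goals
      have hQq : (2 : ℚ) ≤ Qn := by exact_mod_cast hQ2
      have hRq : (5 : ℚ) ≤ Rn := by exact_mod_cast hR5
      nlinarith
  have hT9' : 5 ≤ Tn := by
    obtain ⟨n, hn⟩ := IsPGroup.iff_card.1 T.2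
    rcases n with _ | _ | n
    · rw [← hTn, pow_zero] at hn; omega
    · rw [← hTn, pow_one] at hn; omega
    · rw [← hTn] at hn
      have : 3 ^ 2 ≤ 3 ^ (n + 2) := Nat.pow_le_pow_right (by norm_num) (by omega)
      omega
  obtain ⟨E, hd⟩ := exists_oddData hna h (by omega : (3:ℕ) ≠ 2) h3G T
  obtain ⟨z, hz, hzQ⟩ := exists_involution hna h Q
  have hπ' : (Nat.card G).primeFactors = {2, 3, r} := by rw [hπ, Finset.pair_comm r 3]
  obtain ⟨x, y, f, g, hx, hy, hfg, hdiv, -, hQT, -⟩ :=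
    exceptional hna (by omega : (3:ℕ) ≠ r) (by omega) hπ' hd he hT9' Q R hz hzQ
  obtain ⟨hQx, hRy⟩ := hQT (eq_bot_of_comm hna h (by omega) h3G hd Q hQc)
  rw [← hQn] at hQx
  rw [← hRn] at hRy
  have hQR : Rn = Qn + 1 ∨ Qn = Rn + 1 := by
    rcases hfg with ⟨rfl, rfl⟩ | ⟨rfl, rfl⟩ <;> rcases hdiv with ⟨e, -⟩ | ⟨e, -⟩ <;> omega
  have hr_of : ∀ m, m.Prime → m ≠ 2 → m ≠ 3 → m ∣ Nat.card G → r = m := by
    intro m hm h2 h3 hmG
    have : m ∈ (Nat.card G).primeFactors := Nat.mem_primeFactors.2 ⟨hm, hmG, Nat.card_pos.ne'⟩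
    rw [hπ] at this
    simp only [Finset.mem_insert, Finset.mem_singleton] at this
    omega
  have hrR : r ∣ Rn := R.dvd_card_of_dvd_card hrG
  rcases hb34 with ⟨eb, ea⟩ | ⟨eb, ea⟩ | ⟨eb, ea⟩ | ⟨eb, ea⟩
  · rw [eb] at hdR; rw [ea] at hdQ
    omega
  · rw [eb] at hdR; rw [ea] at hdQ haG
    have := hr_of 5 (by norm_num) (by norm_num) (by norm_num) haG
    subst this
    have h5 : 2 ^ x % 5 = 1 := by omega
    have := two_pow_mod h5
    omega
  · rw [eb] at hdR hcount; rw [ea] at hdQ hcount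
    have h2Q : 2 ∣ Qn := by rw [hQx]; exact dvd_pow_self 2 hx.ne'
    have hx1 : x ≠ 1 := fun e => by rw [e, pow_one] at hQx; omega
    have h4Q : 4 ∣ Qn := by
      rw [hQx, show (4 : ℕ) = 2 ^ 2 by norm_num]
      exact pow_dvd_pow 2 (by omega)
    have hR1 : Rn = Qn + 1 := by omega
    rw [hR1] at hcount
    push_cast at hcount
    have hQ1 : (Qn : ℚ) + 1 ≠ 0 := by positivity
    field_simp at hcount
    have hZ : (Tn : ℤ) * ((Qn : ℤ) ^ 2 - 6 * Qn - 4) = 6 * (Qn : ℤ) ^ 2 + 6 * Qn - 12 := by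
      have : (((Tn : ℤ) * ((Qn : ℤ) ^ 2 - 6 * Qn - 4) : ℤ) : ℚ) =
          ((6 * (Qn : ℤ) ^ 2 + 6 * Qn - 12 : ℤ) : ℚ) := by
        push_cast
        linarith
      exact_mod_cast this
    have hT9 : (9 : ℤ) ≤ Tn := by
      obtain ⟨n, hn⟩ := IsPGroup.iff_card.1 T.2
      rcases n with _ | _ | n
      · rw [← hTn, pow_zero] at hn; omega
      · rw [← hTn, pow_one] at hn; omega
      · rw [← hTn] at hn
        have : 3 ^ 2 ≤ 3 ^ (n + 2) := Nat.pow_le_pow_right (by norm_num) (by omega)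
        omega
    have hQle : Qn ≤ 21 := by
      by_contra hlt
      have h22 : (22 : ℤ) ≤ Qn := by omega
      have hpos : 0 ≤ (Qn : ℤ) ^ 2 - 6 * Qn - 4 := by nlinarith
      nlinarith
    have hxle : x ≤ 4 := by
      by_contra hlt
      have : 2 ^ 5 ≤ 2 ^ x := Nat.pow_le_pow_right (by norm_num) (by omega)
      omega
    interval_cases x <;> norm_num at hQx <;> rw [hQx] at hdQ hZ
    all_goals norm_num at hdQ
    all_goals norm_num at hZ
    all_goals omega
  · rw [eb] at hdR hbG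
    have := hr_of 5 (by norm_num) (by norm_num) (by norm_num) hbG
    subst this
    omega

/-- A nonabelian simple group with the class-size hypothesis has order 60 or 504. -/
theorem simple_case (hna : ¬ IsMulCommutative G) (h : ClassTwo G) :
    Nat.card G = 60 ∨ Nat.card G = 504 := by
  haveI : Fact (Nat.Prime 2) := ⟨Nat.prime_two⟩
  obtain ⟨r, t, hr, ht, hr2, ht2, hrt, hπ⟩ := exists_primes hna h
  wlog hrt' : t < r generalizing r t
  · exact this t r ht hr ht2 hr2 hrt.symm (by rw [hπ, Finset.pair_comm r t]) (by omega)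
  haveI : Fact r.Prime := ⟨hr⟩
  haveI : Fact t.Prime := ⟨ht⟩
  obtain ⟨Q⟩ : Nonempty (Sylow 2 G) := inferInstance
  obtain ⟨R⟩ : Nonempty (Sylow r G) := inferInstance
  obtain ⟨T⟩ : Nonempty (Sylow t G) := inferInstance
  have hrG : r ∣ Nat.card G := Nat.dvd_of_mem_primeFactors (by rw [hπ]; simp)
  have htG : t ∣ Nat.card G := Nat.dvd_of_mem_primeFactors (by rw [hπ]; simp)
  have hr5 : 5 ≤ r := by
    have := ht.two_le
    have := hr.two_le
    by_contra hlt
    interval_cases r <;> first | omega | norm_num at hr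
  have hsum := one_lt_sum hna h hπ hr2 ht2 hrt Q R T
  have hb := two_le_autOrder hna h hrG R
  have hc := two_le_autOrder hna h htG T
  have ha : 3 ≤ autOrder (Q : Subgroup G) := by
    rcases autOrder_two hna h Q with ⟨-, -, h3⟩ | ⟨-, h4, -, -⟩
    · exact h3
    · have : autOrder (Q : Subgroup G) ≠ 0 := Loc.autOrder_ne_zero _
      have := Nat.le_of_dvd (Nat.pos_of_ne_zero this) h4
      omega
  have hle : ∀ e m : ℕ, m ≤ e → 0 < m → (1 : ℚ) / e ≤ 1 / m := fun e m h1 h2 =>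
    one_div_le_one_div_of_le (by exact_mod_cast h2) (by exact_mod_cast h1)
  by_cases hbe : autOrder (R : Subgroup G) = 2
  · by_cases ht3 : t = 3
    · subst ht3
      exact card_of_aut_two hna h hr5 hπ Q R T hbe
    exfalso
    have ht5 : 5 ≤ t := by
      by_contra hlt
      have := ht.two_le
      interval_cases t <;> first | omega | norm_num at ht
    by_cases hce : autOrder (T : Subgroup G) = 2
    · have h1 := card_lt hna h hr5 ht5 hrt hπ Q R T hbe
      have h2 := card_lt hna h ht5 hr5 hrt.symm (by rw [hπ, Finset.pair_comm r t]) Q T R hce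
      omega
    · have hn3 : ¬ 3 ∣ Nat.card G := fun h3 => by
        have hm : 3 ∈ (Nat.card G).primeFactors :=
          Nat.mem_primeFactors.2 ⟨Nat.prime_three, h3, Nat.card_pos.ne'⟩
        rw [hπ] at hm
        simp only [Finset.mem_insert, Finset.mem_singleton] at hm
        omega
      have hne3 : ∀ H : Subgroup G, autOrder H ≠ 3 := fun H e =>
        hn3 (e ▸ Loc.autOrder_dvd_card H)
      have := hne3 (Q : Subgroup G)
      have := hne3 (T : Subgroup G)
      have h1 := hle (autOrder (Q : Subgroup G)) 4 (by omega) (by norm_num)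
      have h2 := hle (autOrder (T : Subgroup G)) 4 (by omega) (by norm_num)
      rw [hbe] at hsum
      push_cast at hsum h1 h2
      linarith
  · exfalso
    by_cases hce : autOrder (T : Subgroup G) = 2
    · by_cases ht3 : t = 3
      · subst ht3
        exact card_of_aut_two_three hna h hr5 hπ Q R T hce (by omega)
      have hn3 : ¬ 3 ∣ Nat.card G := fun h3 => by
        have hm : 3 ∈ (Nat.card G).primeFactors :=
          Nat.mem_primeFactors.2 ⟨Nat.prime_three, h3, Nat.card_pos.ne'⟩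
        rw [hπ] at hm
        simp only [Finset.mem_insert, Finset.mem_singleton] at hm
        omega
      have hne3 : ∀ H : Subgroup G, autOrder H ≠ 3 := fun H e =>
        hn3 (e ▸ Loc.autOrder_dvd_card H)
      have := hne3 (Q : Subgroup G)
      have := hne3 (R : Subgroup G)
      have h1 := hle (autOrder (Q : Subgroup G)) 4 (by omega) (by norm_num)
      have h2 := hle (autOrder (R : Subgroup G)) 4 (by omega) (by norm_num)
      rw [hce] at hsum
      push_cast at hsum h1 h2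
      linarith
    · have h1 := hle (autOrder (Q : Subgroup G)) 3 ha (by norm_num)
      have h2 := hle (autOrder (R : Subgroup G)) 3 (by omega) (by norm_num)
      have h3 := hle (autOrder (T : Subgroup G)) 3 (by omega) (by norm_num)
      push_cast at h1 h2 h3
      linarith

end H72.TwoPrime
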